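import Cfsg.Agent.MinSimple.VModule
import Mathlib
import Cfsg.Agent.Lib.CoprimeHyperplane

-- merged: Cfsg.Agent.Mrg.Omega.ThmC.FourDat
section

section


/-!
# THEOREM C, case `q ≥ 4` (bb OMEGA 15545, helper610): the data

* `Dat S L E Z h p` : the situation in `G` (`L = S^L`, `E = Ω₁ Z(L)`, `Z l = Z_l`, `h l = h_l`).
* `Abs Σ h Z p` : the situation in the group `N = N_G(E) / C_G(E)` acting faithfully on `E` (written additively).

`Act E x y` : `x` and `y` act in the same way on `E` (i.e. they are equal modulo `C(E)`).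
-/

set_option autoImplicit false

namespace Cfsg.Agent.Omega.ThmC.Four

open Subgroup Cfsg Cfsg.Agent.ZN

universe u

/-- `x` and `y` induce the same map on `E` by conjugation. -/
def Act {G : Type u} [Group G] (E : Subgroup G) (x y : G) : Prop := ∀ e ∈ E, x * e * x⁻¹ = y * e * y⁻¹

/-- The data of THEOREM C, case `q ≥ 4`. `L = S^L`, `E = Ω₁ Z(L)`. -/
structure Dat {G : Type u} [Group G] [Finite G] (S : Sylow 2 G) (L : Subgroup G) {k : ℕ}
    (Z : Fin k → Subgroup G) (h : Fin k → G) (p : ℕ) : Prop where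
  prime : p.Prime
  odd : p ≠ 2
  LS : L ≤ S
  nor : (S : Subgroup G) ≤ normalizer (L : Set G)
  cL : centralizer (L : Set G) ≤ L
  hL : ∀ l, h l ∈ normalizer (L : Set G)
  /-- the `h l` commute and have order `p` modulo `C(E)` -/
  hcomm : ∀ l m, Act (zc L) (h l * h m) (h m * h l)
  hp : ∀ l, Act (zc L) (h l ^ p) 1
  /-- `S` permutes the `⟨h l⟩` modulo `C(E)` -/
  perm : ∀ s ∈ (S : Subgroup G), ∃ σ : Equiv.Perm (Fin k), ∀ l, ∃ r : ℕ,
    Act (zc L) (s * h l * s⁻¹) (h (σ l) ^ r)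
  /-- `C_S(D) = L` (modulo `C(E)`) -/
  field : ∀ s ∈ (S : Subgroup G), (∀ l, Act (zc L) (s * h l) (h l * s)) → s ∈ L
  ZE : ∀ l, Z l ≤ zc L
  Zne : ∀ l, Z l ≠ ⊥
  Znor : ∀ l, h l ∈ normalizer (Z l : Set G)
  Zfpf : ∀ l, ∀ z ∈ Z l, h l * z = z * h l → z = 1
  Zcent : ∀ l m, l ≠ m → ∀ z ∈ Z l, h m * z = z * h m
  /-- `C_E(S) ≤ ∑ Z l` -/
  fix : zc (S : Subgroup G) ≤ ⨆ l, Z l

/-- The data of THEOREM C, case `q ≥ 4`, in `N = N_G(E) / C_G(E)` (any finite group), acting faithfully on `A = E`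
(written additively) by `ρ`. -/
structure Abs {N A : Type u} [Group N] [Finite N] [AddCommGroup A] [Finite A] (ρ : N →* AddMonoid.End A)
    (S : Sylow 2 N) {k : ℕ} (h : Fin k → N) (Z : Fin k → AddSubgroup A) (p : ℕ) : Prop where
  two : ∀ a : A, a + a = 0
  inj : Function.Injective ρ
  prime : p.Prime
  odd : p ≠ 2
  hcomm : ∀ l m, h l * h m = h m * h l
  hp : ∀ l, h l ^ p = 1
  perm : ∀ s ∈ (S : Subgroup N), ∃ σ : Equiv.Perm (Fin k), ∀ l, ∃ r : ℕ, s * h l * s⁻¹ = h (σ l) ^ r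
  field : ∀ s ∈ (S : Subgroup N), (∀ l, s * h l = h l * s) → s = 1
  Zne : ∀ l, Z l ≠ ⊥
  Znor : ∀ l, ∀ z ∈ Z l, ρ (h l) z ∈ Z l
  Zfpf : ∀ l, ∀ z ∈ Z l, ρ (h l) z = z → z = 0
  Zcent : ∀ l m, l ≠ m → ∀ z ∈ Z l, ρ (h m) z = z
  fix : ∀ a : A, (∀ s ∈ (S : Subgroup N), ρ s a = a) → a ∈ ⨆ l, Z l

end Cfsg.Agent.Omega.ThmC.Four

end

section


/-!
# THEOREM C, case `q ≥ 4`: sums of operators over subgroups

`avg ρ X = ∑_{x ∈ X} ρ x` : if `|X|` is odd and `2A = 0`, this is the projection onto `C_A(X)`.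
-/

set_option autoImplicit false

namespace Cfsg.Agent.Omega.ThmC.Four

open Subgroup Cfsg

universe u v

section avg

variable {N : Type u} {A : Type v} [Group N] [Finite N] [AddCommGroup A] (ρ : N →* AddMonoid.End A)

/-- The sum of the operators `ρ x`, `x ∈ X`. -/
noncomputable def avg (X : Subgroup N) : AddMonoid.End A := ∑ᶠ x : X, ρ (x : N)

theorem mul_avg (X : Subgroup N) (T : AddMonoid.End A) : T * avg ρ X = ∑ᶠ x : X, T * ρ (x : N) :=
  mul_finsum' _ _ (Set.toFinite _)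

theorem avg_mul (X : Subgroup N) (T : AddMonoid.End A) : avg ρ X * T = ∑ᶠ x : X, ρ (x : N) * T :=
  finsum_mul' _ _ (Set.toFinite _)

theorem avg_apply (X : Subgroup N) (a : A) : avg ρ X a = ∑ᶠ x : X, ρ (x : N) a := by
  exact (AddMonoidHom.eval a : (A →+ A) →+ A).map_finsum (f := fun x : X => ρ (x : N)) (Set.toFinite _)

theorem avg_conj (X : Subgroup N) (s : N) :
    ρ s * avg ρ X = avg ρ (X.map (MulAut.conj s).toMonoidHom) * ρ s := by
  rw [mul_avg, avg_mul]
  rw [← finsum_comp_equiv (X.equivMapOfInjective (MulAut.conj s).toMonoidHom (MulAut.conj s).injective).toEquiv]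
  refine finsum_congr fun x => ?_
  rw [← map_mul, ← map_mul]
  have : (((X.equivMapOfInjective (MulAut.conj s).toMonoidHom (MulAut.conj s).injective).toEquiv x :
      X.map (MulAut.conj s).toMonoidHom) : N) = s * x * s⁻¹ := rfl
  rw [this, inv_mul_cancel_right]

theorem left_avg {X : Subgroup N} {y : N} (hy : y ∈ X) : ρ y * avg ρ X = avg ρ X := by
  rw [mul_avg]
  calc (∑ᶠ x : X, ρ y * ρ (x : N)) = ∑ᶠ x : X, ρ ((Equiv.mulLeft (⟨y, hy⟩ : X) x : X) : N) := by
        refine finsum_congr fun x => ?_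
        rw [← map_mul]
        rfl
    _ = _ := finsum_comp_equiv (Equiv.mulLeft (⟨y, hy⟩ : X)) (f := fun x : X => ρ (x : N))

theorem avg_right {X : Subgroup N} {y : N} (hy : y ∈ X) : avg ρ X * ρ y = avg ρ X := by
  rw [avg_mul]
  calc (∑ᶠ x : X, ρ (x : N) * ρ y) = ∑ᶠ x : X, ρ ((Equiv.mulRight (⟨y, hy⟩ : X) x : X) : N) := by
        refine finsum_congr fun x => ?_
        rw [← map_mul]
        rfl
    _ = _ := finsum_comp_equiv (Equiv.mulRight (⟨y, hy⟩ : X)) (f := fun x : X => ρ (x : N))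

theorem commute_avg {X : Subgroup N} {T : AddMonoid.End A} (h : ∀ x ∈ X, T * ρ x = ρ x * T) :
    T * avg ρ X = avg ρ X * T := by
  rw [mul_avg, avg_mul]
  exact finsum_congr fun x => h x x.2

/-- `T + T = 0`. -/
theorem End_two (h2 : ∀ a : A, a + a = 0) (T : AddMonoid.End A) : T + T = 0 := by
  ext a
  exact h2 _

theorem odd_nsmul {M : Type*} [AddCommGroup M] (h2 : ∀ a : M, a + a = 0) {n : ℕ} (hn : Odd n) (a : M) :
    n • a = a := by
  obtain ⟨m, rfl⟩ := hn
  rw [add_smul, mul_comm, mul_smul, two_smul, h2, smul_zero, zero_add, one_smul]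

theorem finsum_odd_const {M : Type*} [AddCommGroup M] (h2 : ∀ a : M, a + a = 0) {X : Subgroup N}
    (hX : Odd (Nat.card X)) (a : M) : (∑ᶠ _ : X, a) = a := by
  classical
  let _ := Fintype.ofFinite X
  rw [finsum_eq_sum_of_fintype, Finset.sum_const, Finset.card_univ, ← Nat.card_eq_fintype_card]
  exact odd_nsmul h2 hX a

theorem avg_mul_of_fix (h2 : ∀ a : A, a + a = 0) {X : Subgroup N} (hX : Odd (Nat.card X))
    {T : AddMonoid.End A} (h : ∀ x ∈ X, ρ x * T = T) : avg ρ X * T = T := by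
  rw [avg_mul]
  calc (∑ᶠ x : X, ρ (x : N) * T) = ∑ᶠ _ : X, T := finsum_congr fun x => h x x.2
    _ = T := finsum_odd_const (End_two h2) hX T

theorem mul_avg_of_fix (h2 : ∀ a : A, a + a = 0) {X : Subgroup N} (hX : Odd (Nat.card X))
    {T : AddMonoid.End A} (h : ∀ x ∈ X, T * ρ x = T) : T * avg ρ X = T := by
  rw [mul_avg]
  calc (∑ᶠ x : X, T * ρ (x : N)) = ∑ᶠ _ : X, T := finsum_congr fun x => h x x.2
    _ = T := finsum_odd_const (End_two h2) hX T

theorem avg_apply_of_fix (h2 : ∀ a : A, a + a = 0) {X : Subgroup N} (hX : Odd (Nat.card X))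
    {a : A} (h : ∀ x ∈ X, ρ x a = a) : avg ρ X a = a := by
  rw [avg_apply]
  calc (∑ᶠ x : X, ρ (x : N) a) = ∑ᶠ _ : X, a := finsum_congr fun x => h x x.2
    _ = a := finsum_odd_const h2 hX a

/-- `ρ y` fixes `avg X a` for `y ∈ X`. -/
theorem fix_avg_apply {X : Subgroup N} {y : N} (hy : y ∈ X) (a : A) : ρ y (avg ρ X a) = avg ρ X a :=
  congrArg (fun T : AddMonoid.End A => T a) (left_avg ρ hy)

theorem avg_mem {X : Subgroup N} {Z : AddSubgroup A} (h : ∀ x ∈ X, ∀ z ∈ Z, ρ x z ∈ Z) {z : A} (hz : z ∈ Z) :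
    avg ρ X z ∈ Z := by
  rw [avg_apply]
  exact finsum_induction (p := fun a => a ∈ Z) Z.zero_mem (fun _ _ => Z.add_mem) fun x => h _ x.2 z hz

theorem avg_mul_avg (h2 : ∀ a : A, a + a = 0) {X Y Z : Subgroup N} (hX : Odd (Nat.card X))
    (hY : Odd (Nat.card Y)) (hZ : Odd (Nat.card Z)) (hXZ : X ≤ Z) (hYZ : Y ≤ Z) (hle : Z ≤ X ⊔ Y)
    (hc : ∀ x ∈ X, ∀ y ∈ Y, x * y = y * x) : avg ρ X * avg ρ Y = avg ρ Z := by
  have h1 : avg ρ Z * avg ρ X = avg ρ Z := mul_avg_of_fix ρ h2 hX fun x hx => avg_right ρ (hXZ hx)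
  have h3 : avg ρ Z * avg ρ Y = avg ρ Z := mul_avg_of_fix ρ h2 hY fun x hx => avg_right ρ (hYZ hx)
  have hXY : avg ρ X * avg ρ Y = avg ρ Y * avg ρ X := by
    refine commute_avg ρ fun y hy => ?_
    refine (commute_avg ρ (T := ρ y) fun x hx => ?_).symm
    rw [← map_mul, ← map_mul, hc x hx y hy]
  have h4 : ∀ z ∈ X ⊔ Y, ρ z * (avg ρ X * avg ρ Y) = avg ρ X * avg ρ Y := by
    intro z hz
    rw [Subgroup.sup_eq_closure] at hz
    induction hz using Subgroup.closure_induction with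
    | mem z hz =>
      rcases hz with hx | hy
      · rw [← mul_assoc, left_avg ρ hx]
      · rw [hXY, ← mul_assoc, left_avg ρ hy]
    | one => rw [map_one, one_mul]
    | mul a b ha hb iha ihb => rw [map_mul, mul_assoc, ihb, iha]
    | inv a ha iha =>
      calc ρ a⁻¹ * (avg ρ X * avg ρ Y) = ρ a⁻¹ * (ρ a * (avg ρ X * avg ρ Y)) := by rw [iha]
        _ = _ := by rw [← mul_assoc, ← map_mul, inv_mul_cancel, map_one, one_mul]
  calc avg ρ X * avg ρ Y = avg ρ Z * (avg ρ X * avg ρ Y) :=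
        (avg_mul_of_fix ρ h2 hZ fun z hz => h4 z (hle hz)).symm
    _ = avg ρ Z := by rw [← mul_assoc, h1, h3]

end avg

end Cfsg.Agent.Omega.ThmC.Four

end

section


/-!
# THEOREM C, case `q ≥ 4`, (1): the decomposition `A = ⨁ C_l`

`eps ρ h l` is the projection onto `C_l = [A, h l]`.
-/

set_option autoImplicit false
set_option linter.unusedSectionVars false
set_option linter.unusedVariables false
set_option linter.style.haveILetI false

namespace Cfsg.Agent.Omega.ThmC.Four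

open Subgroup Cfsg

universe u

/-- A 2-group acting on an elementary abelian 2-group `K ≠ 0` has a non-zero fixed vector. -/
theorem exists_fix {N A : Type u} [Group N] [Finite N] [AddCommGroup A] [Finite A] {ρ : N →* AddMonoid.End A}
    (h2 : ∀ a : A, a + a = 0) {T : Subgroup N} (hT : IsPGroup 2 T) {K : AddSubgroup A}
    (hK : ∀ s ∈ T, ∀ a ∈ K, ρ s a ∈ K) (hne : K ≠ ⊥) : ∃ a ∈ K, a ≠ 0 ∧ ∀ s ∈ T, ρ s a = a := by
  classical
  let _ : MulAction T K :=
    { smul := fun s a => ⟨ρ s a, hK s s.2 a a.2⟩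
      one_smul := fun a => Subtype.ext (by
        change ρ ((1 : T) : N) (a : A) = a
        rw [OneMemClass.coe_one, map_one]; rfl)
      mul_smul := fun s t a => Subtype.ext (by
        change ρ ((s * t : T) : N) (a : A) = ρ (s : N) (ρ (t : N) a)
        rw [Subgroup.coe_mul, map_mul]; rfl) }
  have hcard : 2 ∣ Nat.card K := by
    obtain ⟨⟨a, ha⟩, ha0'⟩ := AddSubgroup.ne_bot_iff_exists_ne_zero.1 hne
    have ha0 : a ≠ 0 := fun h => ha0' (Subtype.ext h)
    have h1 : addOrderOf (⟨a, ha⟩ : K) = 2 := by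
      refine addOrderOf_eq_prime ?_ ?_
      · rw [two_nsmul]; exact Subtype.ext (h2 a)
      · exact fun h => ha0 (congrArg Subtype.val h)
    rw [← h1]
    exact addOrderOf_dvd_natCard _
  have h0 : (0 : K) ∈ MulAction.fixedPoints T K := by
    intro s
    exact Subtype.ext (map_zero (ρ (s : N)))
  obtain ⟨b, hb, hb0⟩ := hT.exists_fixed_point_of_prime_dvd_card_of_fixed_point K hcard h0
  exact ⟨b, b.2, fun h => hb0 (Subtype.ext h.symm), fun s hs => congrArg Subtype.val (hb ⟨s, hs⟩)⟩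

section defs

variable {N A : Type u} [Group N] [AddCommGroup A] {k : ℕ}

/-- `D = ⟨h l⟩`. -/
def DD (h : Fin k → N) : Subgroup N := closure (Set.range h)

/-- `D_l = ⟨h m : m ≠ l⟩`. -/
def DL (h : Fin k → N) (l : Fin k) : Subgroup N := closure (h '' {l}ᶜ)

/-- The projection onto `C_l`. -/
noncomputable def eps [Finite N] (ρ : N →* AddMonoid.End A) (h : Fin k → N) (l : Fin k) : AddMonoid.End A :=
  avg ρ (DL h l) + avg ρ (DD h)

theorem h_mem_DD (h : Fin k → N) (l : Fin k) : h l ∈ DD h := subset_closure (Set.mem_range_self l)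

theorem h_mem_DL (h : Fin k → N) {l m : Fin k} (hml : m ≠ l) : h m ∈ DL h l :=
  subset_closure (Set.mem_image_of_mem h hml)

theorem DL_le (h : Fin k → N) (l : Fin k) : DL h l ≤ DD h := closure_mono (Set.image_subset_range _ _)

theorem zpowers_le_DD (h : Fin k → N) (l : Fin k) : zpowers (h l) ≤ DD h :=
  (zpowers_le).2 (h_mem_DD h l)

end defs

namespace Abs

variable {N A : Type u} [Group N] [Finite N] [AddCommGroup A] [Finite A] {ρ : N →* AddMonoid.End A}
  {S : Sylow 2 N} {k : ℕ} {h : Fin k → N} {Z : Fin k → AddSubgroup A} {p : ℕ}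

theorem DD_comm (d : Abs ρ S h Z p) : ∀ x ∈ DD h, ∀ y ∈ DD h, x * y = y * x := by
  have h1 : ∀ l, ∀ y ∈ DD h, h l * y = y * h l := by
    intro l y hy
    have : DD h ≤ centralizer ({h l} : Set N) := by
      rw [DD, closure_le]
      rintro _ ⟨m, rfl⟩
      rw [SetLike.mem_coe, mem_centralizer_iff]
      rintro _ rfl
      exact d.hcomm l m
    exact mem_centralizer_iff.1 (this hy) _ rfl
  intro x hx y hy
  have : DD h ≤ centralizer ({y} : Set N) := by
    rw [DD, closure_le]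
    rintro _ ⟨m, rfl⟩
    rw [SetLike.mem_coe, mem_centralizer_iff]
    rintro _ rfl
    exact (h1 m _ hy).symm
  exact (mem_centralizer_iff.1 (this hx) _ rfl).symm

theorem DD_pow (d : Abs ρ S h Z p) : ∀ x ∈ DD h, x ^ p = 1 := by
  intro x hx
  have hx' := hx
  rw [DD] at hx
  induction hx using Subgroup.closure_induction with
  | mem z hz => obtain ⟨l, rfl⟩ := hz; exact d.hp l
  | one => exact one_pow _
  | mul a b ha hb iha ihb =>
    have hc : Commute a b := d.DD_comm a ha b hb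
    rw [hc.mul_pow, iha ha, ihb hb, one_mul]
  | inv a ha iha => rw [inv_pow, iha ha, inv_one]

theorem odd_card (d : Abs ρ S h Z p) {X : Subgroup N} (hX : X ≤ DD h) : Odd (Nat.card X) := by
  haveI := Fact.mk d.prime
  have : IsPGroup p X := fun x => ⟨1, by
    rw [pow_one]
    exact Subtype.ext (d.DD_pow _ (hX x.2))⟩
  obtain ⟨n, hn⟩ := IsPGroup.iff_card.1 this
  rw [hn]
  exact (d.prime.odd_of_ne_two d.odd).pow

theorem zpowers_le_DD' (l : Fin k) : zpowers (h l) ≤ DD h := zpowers_le_DD h l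

theorem DD_le_sup {l m : Fin k} (hlm : l ≠ m) : DD h ≤ DL h l ⊔ DL h m := by
  rw [DD, closure_le]
  rintro _ ⟨j, rfl⟩
  by_cases hj : j = l
  · subst hj
    exact mem_sup_right (h_mem_DL h hlm)
  · exact mem_sup_left (h_mem_DL h hj)

theorem DD_le_sup' (l : Fin k) : DD h ≤ zpowers (h l) ⊔ DL h l := by
  rw [DD, closure_le]
  rintro _ ⟨j, rfl⟩
  by_cases hj : j = l
  · subst hj
    exact mem_sup_left (mem_zpowers _)
  · exact mem_sup_right (h_mem_DL h hj)

theorem avg_mul' (d : Abs ρ S h Z p) {X Y Z' : Subgroup N} (hX : X ≤ DD h) (hY : Y ≤ DD h) (hZ : Z' ≤ DD h)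
    (hXZ : X ≤ Z') (hYZ : Y ≤ Z') (hle : Z' ≤ X ⊔ Y) : avg ρ X * avg ρ Y = avg ρ Z' :=
  avg_mul_avg ρ d.two (d.odd_card hX) (d.odd_card hY) (d.odd_card hZ) hXZ hYZ hle
    fun x hx y hy => d.DD_comm x (hX hx) y (hY hy)

theorem DL_DL (d : Abs ρ S h Z p) {l m : Fin k} (hlm : l ≠ m) :
    avg ρ (DL h l) * avg ρ (DL h m) = avg ρ (DD h) :=
  d.avg_mul' (DL_le h l) (DL_le h m) le_rfl (DL_le h l) (DL_le h m) (DD_le_sup hlm)

theorem self_mul (d : Abs ρ S h Z p) {X : Subgroup N} (hX : X ≤ DD h) : avg ρ X * avg ρ X = avg ρ X :=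
  d.avg_mul' hX hX hX le_rfl le_rfl le_sup_left

theorem mul_DD (d : Abs ρ S h Z p) {X : Subgroup N} (hX : X ≤ DD h) : avg ρ X * avg ρ (DD h) = avg ρ (DD h) :=
  d.avg_mul' hX le_rfl le_rfl hX le_rfl le_sup_right

theorem DD_mul (d : Abs ρ S h Z p) {X : Subgroup N} (hX : X ≤ DD h) : avg ρ (DD h) * avg ρ X = avg ρ (DD h) :=
  d.avg_mul' le_rfl hX le_rfl le_rfl hX le_sup_left

theorem add_self' (d : Abs ρ S h Z p) (T : AddMonoid.End A) : T + T = 0 := End_two d.two T

theorem eps_idem (d : Abs ρ S h Z p) (l : Fin k) : eps ρ h l * eps ρ h l = eps ρ h l := by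
  rw [eps, mul_add, add_mul, add_mul, d.self_mul (DL_le h l), d.mul_DD (DL_le h l), d.DD_mul (DL_le h l),
    d.self_mul le_rfl, d.add_self', add_zero]

theorem eps_orth (d : Abs ρ S h Z p) {l m : Fin k} (hlm : l ≠ m) : eps ρ h l * eps ρ h m = 0 := by
  rw [eps, eps, mul_add, add_mul, add_mul, d.DL_DL hlm, d.mul_DD (DL_le h l), d.DD_mul (DL_le h m),
    d.self_mul le_rfl, d.add_self']

theorem h_mul_eps (d : Abs ρ S h Z p) {l m : Fin k} (hml : m ≠ l) : ρ (h m) * eps ρ h l = eps ρ h l := by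
  rw [eps, mul_add, left_avg ρ (h_mem_DL h hml), left_avg ρ (h_mem_DD h m)]

theorem eps_mul_h (d : Abs ρ S h Z p) {l m : Fin k} (hml : m ≠ l) : eps ρ h l * ρ (h m) = eps ρ h l := by
  rw [eps, add_mul, avg_right ρ (h_mem_DL h hml), avg_right ρ (h_mem_DD h m)]

/-- An element of `N` which commutes with all `h m` commutes with `eps l`. -/
theorem commute_DD (d : Abs ρ S h Z p) {x : N} (hx : x ∈ DD h) (l : Fin k) :
    ρ x * eps ρ h l = eps ρ h l * ρ x := by
  rw [eps, mul_add, add_mul]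
  congr 1
  · refine commute_avg ρ fun y hy => ?_
    rw [← map_mul, ← map_mul, d.DD_comm x hx y (DL_le h l hy)]
  · refine commute_avg ρ fun y hy => ?_
    rw [← map_mul, ← map_mul, d.DD_comm x hx y hy]

/-! ### the action of `S` -/

/-- `s` permutes the `⟨h l⟩` as `σ`. -/
def Perm (h : Fin k → N) (s : N) (σ : Equiv.Perm (Fin k)) : Prop :=
  ∀ l, ∃ r : ℕ, s * h l * s⁻¹ = h (σ l) ^ r

theorem map_DL_le {s : N} {σ : Equiv.Perm (Fin k)} (hs : Perm h s σ) (l : Fin k) :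
    (DL h l).map (MulAut.conj s).toMonoidHom ≤ DL h (σ l) := by
  rw [DL, MonoidHom.map_closure, closure_le]
  rintro _ ⟨_, ⟨m, hm, rfl⟩, rfl⟩
  obtain ⟨r, hr⟩ := hs m
  have : (MulAut.conj s).toMonoidHom (h m) = h (σ m) ^ r := by rw [← hr]; rfl
  rw [SetLike.mem_coe, this]
  exact pow_mem (h_mem_DL h fun e => hm (σ.injective e)) _

theorem map_DD_le {s : N} {σ : Equiv.Perm (Fin k)} (hs : Perm h s σ) :
    (DD h).map (MulAut.conj s).toMonoidHom ≤ DD h := by
  rw [DD, MonoidHom.map_closure, closure_le]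
  rintro _ ⟨_, ⟨m, rfl⟩, rfl⟩
  obtain ⟨r, hr⟩ := hs m
  have : (MulAut.conj s).toMonoidHom (h m) = h (σ m) ^ r := by rw [← hr]; rfl
  rw [SetLike.mem_coe, this]
  exact pow_mem (h_mem_DD h _) _

theorem card_map_conj (X : Subgroup N) (s : N) :
    Nat.card (X.map (MulAut.conj s).toMonoidHom) = Nat.card X :=
  Nat.card_congr (X.equivMapOfInjective (MulAut.conj s).toMonoidHom (MulAut.conj s).injective).toEquiv.symm

theorem map_DD {s : N} {σ : Equiv.Perm (Fin k)} (hs : Perm h s σ) :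
    (DD h).map (MulAut.conj s).toMonoidHom = DD h :=
  eq_of_le_of_card_ge (map_DD_le hs) (card_map_conj _ _).ge

theorem map_DL {s : N} {σ : Equiv.Perm (Fin k)} (hs : Perm h s σ) (l : Fin k) :
    (DL h l).map (MulAut.conj s).toMonoidHom = DL h (σ l) := by
  have h1 : ∀ m, Nat.card (DL h m) ≤ Nat.card (DL h (σ m)) := by
    intro m
    rw [← card_map_conj (DL h m) s]
    exact Subgroup.card_le_of_le (map_DL_le hs m)
  have h2 := (Finset.sum_eq_sum_iff_of_le (s := Finset.univ) (fun i _ => h1 i)).1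
    (Equiv.sum_comp σ fun m => Nat.card (DL h m)).symm l (Finset.mem_univ l)
  refine eq_of_le_of_card_ge (map_DL_le hs l) ?_
  rw [card_map_conj, h2]

theorem conj_eps {s : N} {σ : Equiv.Perm (Fin k)} (hs : Perm h s σ) (l : Fin k) :
    ρ s * eps ρ h l = eps ρ h (σ l) * ρ s := by
  rw [eps, eps, mul_add, add_mul, avg_conj, avg_conj, map_DL hs, map_DD hs]

/-! ### (1) -/

theorem pow_fix {x : N} {a : A} (hx : ρ x a = a) {y : N} (hy : y ∈ zpowers x) : ρ y a = a := by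
  obtain ⟨n, rfl⟩ := hy
  have h1 : ∀ m : ℕ, ρ (x ^ m) a = a := by
    intro m
    induction m with
    | zero => rw [pow_zero, map_one]; rfl
    | succ m ih => rw [pow_succ, map_mul]; change ρ (x ^ m) (ρ x a) = a; rw [hx, ih]
  rcases n with n | n
  · have h3 := h1 n
    change ρ (x ^ ((n : ℕ) : ℤ)) a = a
    rw [zpow_natCast]
    exact h3
  · have h3 : ρ (x ^ (n + 1)) a = a := h1 _
    calc ρ ((fun z : ℤ => x ^ z) (Int.negSucc n)) a = ρ (x ^ (n + 1))⁻¹ a := by
          rw [show (fun z : ℤ => x ^ z) (Int.negSucc n) = (x ^ (n + 1))⁻¹ from zpow_negSucc x n]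
      _ = ρ (x ^ (n + 1))⁻¹ (ρ (x ^ (n + 1)) a) := by rw [h3]
      _ = ρ ((x ^ (n + 1))⁻¹ * x ^ (n + 1)) a := by rw [map_mul]; rfl
      _ = a := by rw [inv_mul_cancel, map_one]; rfl

/-- `Z l` is invariant under `D`. -/
theorem Z_inv (d : Abs ρ S h Z p) (l : Fin k) : ∀ x ∈ DD h, ∀ z ∈ Z l, ρ x z ∈ Z l := by
  have hgen : ∀ m, ∀ z ∈ Z l, ρ (h m) z ∈ Z l := by
    intro m z hz
    by_cases hm : l = m
    · subst hm; exact d.Znor l z hz
    · rw [d.Zcent l m hm z hz]; exact hz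
  intro x hx
  rw [DD] at hx
  induction hx using Subgroup.closure_induction with
  | mem y hy => obtain ⟨m, rfl⟩ := hy; exact hgen m
  | one => intro z hz; rw [map_one]; exact hz
  | mul a b ha hb iha ihb => intro z hz; rw [map_mul]; exact iha _ (ihb z hz)
  | inv a ha iha =>
    intro z hz
    -- `a⁻¹ = a ^ (p - 1)`
    have h1 : a⁻¹ = a ^ (p - 1) := by
      have h2 := d.DD_pow a ha
      have h3 : a ^ (p - 1) * a = 1 := by
        rw [← pow_succ, Nat.sub_add_cancel d.prime.one_lt.le, h2]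
      exact (eq_inv_of_mul_eq_one_left h3).symm
    rw [h1]
    generalize p - 1 = n
    induction n with
    | zero => rw [pow_zero, map_one]; exact hz
    | succ n ih => rw [pow_succ', map_mul]; exact iha _ ih

theorem avg_Z (d : Abs ρ S h Z p) {l : Fin k} {X : Subgroup N} (hX : X ≤ DD h) (hl : h l ∈ X) {z : A}
    (hz : z ∈ Z l) : avg ρ X z = 0 := by
  refine d.Zfpf l _ (avg_mem ρ (fun x hx => d.Z_inv l x (hX hx)) hz) ?_
  exact fix_avg_apply ρ hl z

theorem avg_DL_Z (d : Abs ρ S h Z p) {l : Fin k} {z : A} (hz : z ∈ Z l) : avg ρ (DL h l) z = z := by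
  refine avg_apply_of_fix ρ d.two (d.odd_card (DL_le h l)) fun x hx => ?_
  rw [DL] at hx
  induction hx using Subgroup.closure_induction with
  | mem y hy => obtain ⟨m, hm, rfl⟩ := hy; exact d.Zcent l m (fun e => hm e.symm) z hz
  | one => rw [map_one]; rfl
  | mul a b ha hb iha ihb => rw [map_mul]; change ρ a (ρ b z) = z; rw [ihb, iha]
  | inv a ha iha => exact pow_fix iha ⟨-1, by simp⟩

theorem eps_Z (d : Abs ρ S h Z p) {l : Fin k} {z : A} (hz : z ∈ Z l) : eps ρ h l z = z := by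
  change avg ρ (DL h l) z + avg ρ (DD h) z = z
  rw [d.avg_DL_Z hz, d.avg_Z le_rfl (h_mem_DD h l) hz, add_zero]

theorem eps_Z' (d : Abs ρ S h Z p) {l m : Fin k} (hml : m ≠ l) {z : A} (hz : z ∈ Z l) : eps ρ h m z = 0 := by
  change avg ρ (DL h m) z + avg ρ (DD h) z = 0
  rw [d.avg_Z (DL_le h m) (h_mem_DL h hml.symm) hz, d.avg_Z le_rfl (h_mem_DD h l) hz, add_zero]

theorem eps_ne (d : Abs ρ S h Z p) (l : Fin k) : ∃ a, eps ρ h l a ≠ 0 := by
  obtain ⟨a, ha⟩ := AddSubgroup.ne_bot_iff_exists_ne_zero.1 (d.Zne l)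
  refine ⟨a, ?_⟩
  rw [d.eps_Z a.2]
  exact fun h => ha (Subtype.ext h)

/-- **(1)** `A = ⨁ C_l`. -/
theorem sum_eps (d : Abs ρ S h Z p) : ∑ l, eps ρ h l = 1 := by
  classical
  set E : AddMonoid.End A := ∑ l, eps ρ h l with hE
  have hEE : E * E = E := by
    rw [hE, Finset.sum_mul]
    refine Finset.sum_congr rfl fun l _ => ?_
    rw [Finset.mul_sum, Finset.sum_eq_single l (fun m _ hm => d.eps_orth hm.symm)
      (fun h => (h (Finset.mem_univ l)).elim), d.eps_idem]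
  have hES : ∀ s ∈ (S : Subgroup N), ρ s * E = E * ρ s := by
    intro s hs
    obtain ⟨σ, hσ⟩ := d.perm s hs
    rw [hE, Finset.mul_sum, Finset.sum_mul]
    calc ∑ l, ρ s * eps ρ h l = ∑ l, eps ρ h (σ l) * ρ s := Finset.sum_congr rfl fun l _ => conj_eps hσ l
      _ = _ := Equiv.sum_comp σ fun l => eps ρ h l * ρ s
  have hEapp : ∀ a, E a = ∑ l, eps ρ h l a := by
    intro a
    rw [hE]
    exact AddMonoidHom.finsetSum_apply _ _ _
  have hEZ : ∀ a ∈ ⨆ l, Z l, E a = a := by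
    intro a ha
    have : ⨆ l, Z l ≤ (E : A →+ A).eqLocus (AddMonoidHom.id A) := by
      refine iSup_le fun l z hz => ?_
      change E z = z
      rw [hEapp, Finset.sum_eq_single l (fun m _ hm => d.eps_Z' hm hz)
        (fun h => (h (Finset.mem_univ l)).elim), d.eps_Z hz]
    exact this ha
  have hker : (E : A →+ A).ker = ⊥ := by
    by_contra hne
    obtain ⟨a, ha, ha0, hfix⟩ := exists_fix (ρ := ρ) d.two S.isPGroup' (K := (E : A →+ A).ker) (by
      intro s hs a ha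
      have h1 : E a = 0 := ha
      change E (ρ s a) = 0
      have h2 := congrArg (fun T : AddMonoid.End A => T a) (hES s hs)
      change ρ s (E a) = E (ρ s a) at h2
      rw [← h2, h1, map_zero]) hne
    have h1 : E a = 0 := ha
    rw [hEZ a (d.fix a hfix)] at h1
    exact ha0 h1
  ext a
  have h1 : a + E a ∈ (E : A →+ A).ker := by
    change E (a + E a) = 0
    have h2 := congrArg (fun T : AddMonoid.End A => T a) hEE
    change E (E a) = E a at h2
    rw [map_add, h2, d.two]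
  rw [hker, AddSubgroup.mem_bot] at h1
  change E a = a
  have h3 := d.two a
  calc E a = a + a + E a := by rw [h3, zero_add]
    _ = a + (a + E a) := by rw [add_assoc]
    _ = a := by rw [h1, add_zero]

theorem avg_h_mul_eps (d : Abs ρ S h Z p) (l : Fin k) : avg ρ (zpowers (h l)) * eps ρ h l = 0 := by
  rw [eps, mul_add, d.mul_DD (zpowers_le_DD h l),
    d.avg_mul' (zpowers_le_DD h l) (DL_le h l) le_rfl (zpowers_le_DD h l) (DL_le h l) (DD_le_sup' l), d.add_self']

/-- `eps l = 1 + avg ⟨h l⟩`. -/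
theorem eps_eq (d : Abs ρ S h Z p) (l : Fin k) : eps ρ h l = 1 + avg ρ (zpowers (h l)) := by
  classical
  have h1 : avg ρ (zpowers (h l)) = ∑ m, avg ρ (zpowers (h l)) * eps ρ h m := by
    rw [← Finset.mul_sum, d.sum_eps, mul_one]
  have h2 : eps ρ h l + avg ρ (zpowers (h l)) = 1 := by
    rw [h1, ← d.sum_eps, ← Finset.add_sum_erase Finset.univ _ (Finset.mem_univ l),
      ← Finset.add_sum_erase (a := l) Finset.univ (fun m => eps ρ h m) (Finset.mem_univ l), d.avg_h_mul_eps, zero_add]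
    congr 1
    refine Finset.sum_congr rfl fun m hm => ?_
    have hml : l ≠ m := (Finset.ne_of_mem_erase hm).symm
    refine avg_mul_of_fix ρ d.two (d.odd_card (zpowers_le_DD h l)) fun x hx => ?_
    ext a
    exact pow_fix (ρ := ρ) (congrArg (fun T : AddMonoid.End A => T a) (d.h_mul_eps hml)) hx
  calc eps ρ h l = eps ρ h l + (avg ρ (zpowers (h l)) + avg ρ (zpowers (h l))) := by rw [d.add_self', add_zero]
    _ = _ := by rw [← add_assoc, h2]

/-- `h l` is fixed-point-free on `C_l`. -/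
theorem fpf (d : Abs ρ S h Z p) {l : Fin k} {a : A} (ha : ρ (h l) (eps ρ h l a) = eps ρ h l a) :
    eps ρ h l a = 0 := by
  have h1 : avg ρ (zpowers (h l)) (eps ρ h l a) = eps ρ h l a :=
    avg_apply_of_fix ρ d.two (d.odd_card (zpowers_le_DD h l)) fun x hx => pow_fix ha hx
  rw [← h1]
  exact congrArg (fun T : AddMonoid.End A => T a) (d.avg_h_mul_eps l)

/-- An element of `N` which commutes with `h l` commutes with `eps l`. -/
theorem commute_eps (d : Abs ρ S h Z p) {x : N} {l : Fin k} (hx : x * h l = h l * x) :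
    ρ x * eps ρ h l = eps ρ h l * ρ x := by
  rw [d.eps_eq, mul_add, add_mul, mul_one, one_mul]
  congr 1
  refine commute_avg ρ fun y hy => ?_
  obtain ⟨n, rfl⟩ := hy
  rw [← map_mul, ← map_mul]
  congr 1
  exact ((show Commute x (h l) from hx).zpow_right n)

theorem h_ne (d : Abs ρ S h Z p) (l : Fin k) : h l ≠ 1 := by
  intro he
  obtain ⟨a, ha⟩ := d.eps_ne l
  refine ha (d.fpf ?_)
  rw [he, map_one]
  rfl

theorem orderOf_h (d : Abs ρ S h Z p) (l : Fin k) : orderOf (h l) = p := by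
  haveI := Fact.mk d.prime
  exact orderOf_eq_prime (d.hp l) (d.h_ne l)

end Abs

end Cfsg.Agent.Omega.ThmC.Four

end

section


/-!
# THEOREM C, case `q ≥ 4`, (2): no four-group all of whose involutions have the same commutator space
-/

set_option autoImplicit false
set_option linter.unusedSectionVars false
set_option linter.unusedVariables false

namespace Cfsg.Agent.Omega.ThmC.Four

open Subgroup Cfsg

universe u

/-- `[A, f]`. -/
def im {N A : Type u} [Group N] [AddCommGroup A] (ρ : N →* AddMonoid.End A) (f : N) : AddSubgroup A :=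
  AddMonoidHom.range (1 + ρ f : AddMonoid.End A)

theorem mem_im {N A : Type u} [Group N] [AddCommGroup A] {ρ : N →* AddMonoid.End A} {f : N} {a : A} :
    a ∈ im ρ f ↔ ∃ b, b + ρ f b = a := Iff.rfl

theorem rho_mul {N A : Type u} [Group N] [AddCommGroup A] (ρ : N →* AddMonoid.End A) (f g : N) (a : A) :
    ρ (f * g) a = ρ f (ρ g a) := by rw [map_mul]; rfl

theorem rho_one {N A : Type u} [Group N] [AddCommGroup A] (ρ : N →* AddMonoid.End A) (a : A) :
    ρ 1 a = a := by rw [map_one]; rfl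

namespace Abs

variable {N A : Type u} [Group N] [Finite N] [AddCommGroup A] [Finite A] {ρ : N →* AddMonoid.End A}
  {S : Sylow 2 N} {k : ℕ} {h : Fin k → N} {Z : Fin k → AddSubgroup A} {p : ℕ}

theorem Perm.mul {s t : N} {σ τ : Equiv.Perm (Fin k)} (hs : Perm h s σ) (ht : Perm h t τ) :
    Perm h (s * t) (σ * τ) := by
  intro l
  obtain ⟨r, hr⟩ := ht l
  obtain ⟨r', hr'⟩ := hs (τ l)
  refine ⟨r' * r, ?_⟩
  calc s * t * h l * (s * t)⁻¹ = s * (t * h l * t⁻¹) * s⁻¹ := by group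
    _ = (s * h (τ l) * s⁻¹) ^ r := by rw [hr, conj_pow]
    _ = h ((σ * τ) l) ^ (r' * r) := by rw [hr', ← pow_mul]; rfl

theorem conj_eps_apply {s : N} {σ : Equiv.Perm (Fin k)} (hs : Perm h s σ) (l : Fin k) (a : A) :
    ρ s (eps ρ h l a) = eps ρ h (σ l) (ρ s a) :=
  congrArg (fun T : AddMonoid.End A => T a) (conj_eps hs l)

theorem idem_apply (d : Abs ρ S h Z p) (l : Fin k) (a : A) : eps ρ h l (eps ρ h l a) = eps ρ h l a :=
  congrArg (fun T : AddMonoid.End A => T a) (d.eps_idem l)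

theorem orth_apply (d : Abs ρ S h Z p) {l m : Fin k} (hlm : l ≠ m) (a : A) : eps ρ h l (eps ρ h m a) = 0 :=
  congrArg (fun T : AddMonoid.End A => T a) (d.eps_orth hlm)

theorem sq_apply {g : N} (hgg : g * g = 1) (a : A) : ρ g (ρ g a) = a := by
  rw [← rho_mul, hgg, rho_one]

/-- elements of `[A, g]` are fixed by the involution `g`. -/
theorem fix_im {g : N} (hgg : g * g = 1) {a : A} (ha : a ∈ im ρ g) : ρ g a = a := by
  obtain ⟨b, rfl⟩ := mem_im.1 ha
  rw [map_add, sq_apply hgg, add_comm]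

theorem stepA1 (d : Abs ρ S h Z p) {f g : N} {σ τ : Equiv.Perm (Fin k)} (hf : Perm h f σ) (hg : Perm h g τ)
    (hgg : g * g = 1) (him : im ρ f ≤ im ρ g) {x : Fin k} (hx : σ x ≠ x) : τ x ≠ x := by
  intro hτ
  have key : ∀ a, ∃ b, eps ρ h x a = eps ρ h x b + ρ g (eps ρ h x b) := by
    intro a
    obtain ⟨b, hb⟩ := mem_im.1 (him (mem_im.2 ⟨eps ρ h x a, rfl⟩))
    refine ⟨b, ?_⟩
    have h1 := congrArg (eps ρ h x) hb
    rw [map_add, map_add, d.idem_apply, conj_eps_apply hf, d.orth_apply hx.symm, add_zero] at h1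
    rw [conj_eps_apply hg, hτ]
    exact h1.symm
  have hfix : ∀ a, ρ g (eps ρ h x a) = eps ρ h x a := by
    intro a
    obtain ⟨b, hb⟩ := key a
    rw [hb, map_add, sq_apply hgg, add_comm]
  obtain ⟨a, ha⟩ := d.eps_ne x
  obtain ⟨b, hb⟩ := key a
  rw [hfix, d.two] at hb
  exact ha hb

theorem stepA2 (d : Abs ρ S h Z p) {f g : N} {σ τ : Equiv.Perm (Fin k)} (hf : Perm h f σ) (hg : Perm h g τ)
    (hgg : g * g = 1) (him : im ρ f ≤ im ρ g) {x : Fin k} (hx : σ x ≠ x) (hx' : τ x ≠ x) : τ (σ x) = x := by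
  by_contra hne
  obtain ⟨a, ha⟩ := d.eps_ne x
  have h1 := fix_im hgg (him (mem_im.2 ⟨eps ρ h x a, rfl⟩))
  have h2 := congrArg (eps ρ h x) h1
  rw [map_add, map_add, map_add, d.idem_apply, conj_eps_apply hf, d.orth_apply hx.symm, add_zero,
    conj_eps_apply hg, conj_eps_apply hg, d.orth_apply (Ne.symm hx'), d.orth_apply (Ne.symm hne), add_zero] at h2
  exact ha h2.symm

theorem stepA (d : Abs ρ S h Z p) {f g : N} {σ τ : Equiv.Perm (Fin k)} (hf : Perm h f σ) (hg : Perm h g τ)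
    (hgg : g * g = 1) (hgf : g * f * (g * f) = 1) (h1 : im ρ f = im ρ g) (h2 : im ρ f = im ρ (g * f))
    (x : Fin k) : σ x = x := by
  by_contra hx
  have h3 := d.stepA1 hf hg hgg h1.le hx
  have h4 := d.stepA2 hf hg hgg h1.le hx h3
  exact d.stepA1 hf (hg.mul hf) hgf h2.le hx h4

theorem inv_or (d : Abs ρ S h Z p) {f : N} (hff : f * f = 1) {l : Fin k} {r : ℕ}
    (hr : f * h l * f⁻¹ = h l ^ r) : f * h l = h l * f ∨ f * h l = (h l)⁻¹ * f := by
  have hfi : f⁻¹ = f := by rw [inv_eq_iff_mul_eq_one, hff]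
  have h1 : h l ^ ((r : ℤ) * r) = h l ^ (1 : ℤ) := by
    have e1 : f * (f * h l * f⁻¹) * f⁻¹ = h l := by
      calc f * (f * h l * f⁻¹) * f⁻¹ = (f * f) * h l * (f * f)⁻¹ := by group
        _ = h l := by rw [hff]; group
    have e2 : f * h l ^ r * f⁻¹ = h l ^ (r * r) := by
      rw [← conj_pow, hr, ← pow_mul]
    rw [hr, e2] at e1
    rw [zpow_one, ← Nat.cast_mul, zpow_natCast, e1]
  rw [← orderOf_dvd_sub_iff_zpow_eq_zpow, d.orderOf_h] at h1
  have h2 : (r : ℤ) * r - 1 = (r - 1) * (r - (-1)) := by ring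
  rw [h2] at h1
  have key : ∀ n : ℤ, (p : ℤ) ∣ r - n → f * h l = h l ^ n * f := by
    intro n hn
    rw [← d.orderOf_h l, orderOf_dvd_sub_iff_zpow_eq_zpow, zpow_natCast, ← hr] at hn
    rw [← hn, inv_mul_cancel_right]
  rcases (Nat.prime_iff_prime_int.1 d.prime).dvd_or_dvd h1 with h3 | h3
  · left
    rw [key 1 h3, zpow_one]
  · right
    rw [key (-1) h3, zpow_neg_one]

theorem sq_fix (d : Abs ρ S h Z p) {l : Fin k} {a : A} (ha : ρ (h l) (ρ (h l) a) = a) : ρ (h l) a = a := by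
  have h1 : ρ (h l ^ 2) a = a := by rw [pow_two, rho_mul, ha]
  refine pow_fix h1 ?_
  obtain ⟨m, hm⟩ := d.prime.odd_of_ne_two d.odd
  refine ⟨(m + 1 : ℕ), ?_⟩
  change (h l ^ 2) ^ ((m + 1 : ℕ) : ℤ) = h l
  rw [zpow_natCast, ← pow_mul, show 2 * (m + 1) = p + 1 by omega, pow_succ, d.hp, one_mul]

theorem fpf' (d : Abs ρ S h Z p) {l : Fin k} {a : A} (he : eps ρ h l a = a) (ha : ρ (h l) a = a) : a = 0 := by
  have := d.fpf (l := l) (a := a) (by rw [he, ha])
  rwa [he] at this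

theorem commute_eps_apply (d : Abs ρ S h Z p) {x : N} {l : Fin k} (hx : x * h l = h l * x) (a : A) :
    ρ x (eps ρ h l a) = eps ρ h l (ρ x a) :=
  congrArg (fun T : AddMonoid.End A => T a) (d.commute_eps hx)

/-- If `f` inverts `h l` and `im f = im f''` where `f''` commutes with `h l`: contradiction. -/
theorem stepB (d : Abs ρ S h Z p) {f f' : N} (hff : f * f = 1) {l : Fin k}
    (hfc : ∀ a, ρ f (eps ρ h l a) = eps ρ h l (ρ f a)) (hf : f * h l = (h l)⁻¹ * f)
    (hf' : f' * h l = h l * f') (him : im ρ f = im ρ f') : False := by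
  -- `f` is trivial on the vectors `c` with `f c = c`, `f (h c) = h c`
  have key : ∀ c, eps ρ h l c = c → ρ f c = c → ρ f (ρ (h l) c) = ρ (h l) c → c = 0 := by
    intro c hc h1 h2
    refine d.fpf' hc (d.sq_fix ?_)
    have h3 : ρ f (ρ (h l) c) = ρ (h l)⁻¹ c := by
      rw [← rho_mul, hf, rho_mul, h1]
    rw [h2] at h3
    rw [h3, ← rho_mul, mul_inv_cancel, rho_one]
  have hh : ∀ a, ρ (h l) (eps ρ h l a) = eps ρ h l (ρ (h l) a) := fun a => d.commute_eps_apply rfl a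
  have h1 : ∀ a, ρ f (eps ρ h l a) = eps ρ h l a := by
    intro a
    have h0 : eps ρ h l a + ρ f (eps ρ h l a) = 0 := by
      set c := eps ρ h l a + ρ f (eps ρ h l a) with hc
      have hcim : c ∈ im ρ f := mem_im.2 ⟨_, rfl⟩
      have hce : eps ρ h l c = c := by rw [hc, map_add, d.idem_apply, hfc, d.idem_apply]
      refine key c hce (fix_im hff hcim) ?_
      refine fix_im hff ?_
      rw [him] at hcim ⊢
      obtain ⟨b, hb⟩ := mem_im.1 hcim
      refine mem_im.2 ⟨ρ (h l) b, ?_⟩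
      rw [← hb, map_add, ← rho_mul, ← rho_mul, hf']
    calc ρ f (eps ρ h l a) = (eps ρ h l a + eps ρ h l a) + ρ f (eps ρ h l a) := by rw [d.two, zero_add]
      _ = eps ρ h l a := by rw [add_assoc, h0, add_zero]
  obtain ⟨a, ha⟩ := d.eps_ne l
  refine ha (key _ (d.idem_apply l a) (h1 a) ?_)
  rw [hh, h1]

theorem no_four_S (d : Abs ρ S h Z p) {f g : N} (hf : f ∈ (S : Subgroup N)) (hg : g ∈ (S : Subgroup N))
    (hff : f * f = 1) (hgg : g * g = 1) (hfg : f * g = g * f) (hf1 : f ≠ 1)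
    (h1 : im ρ f = im ρ g) (h2 : im ρ f = im ρ (g * f)) : False := by
  obtain ⟨σ, hσ⟩ := d.perm f hf
  obtain ⟨τ, hτ⟩ := d.perm g hg
  have hgf : g * f * (g * f) = 1 := by
    calc g * f * (g * f) = g * (f * g) * f := by group
      _ = (g * g) * (f * f) := by rw [hfg]; group
      _ = 1 := by rw [hff, hgg, one_mul]
  have hfg' : f * g * (f * g) = 1 := by rw [hfg]; exact hgf
  have hσ1 : ∀ x, σ x = x := d.stepA hσ hτ hgg hgf h1 h2
  have hτ1 : ∀ x, τ x = x := d.stepA hτ hσ hff hfg' h1.symm (by rw [← h1, h2, hfg])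
  have hσ2 : ∀ l, ∃ r : ℕ, f * h l * f⁻¹ = h l ^ r := fun l => by
    obtain ⟨r, hr⟩ := hσ l
    exact ⟨r, by rw [hr, hσ1]⟩
  have hτ2 : ∀ l, ∃ r : ℕ, g * h l * g⁻¹ = h l ^ r := fun l => by
    obtain ⟨r, hr⟩ := hτ l
    exact ⟨r, by rw [hr, hτ1]⟩
  -- some `h l` is inverted by `f`
  have hl : ∃ l, ¬ f * h l = h l * f := by
    by_contra hcon
    push Not at hcon
    exact hf1 (d.field f hf hcon)
  obtain ⟨l, hl⟩ := hl
  obtain ⟨r, hr⟩ := hσ2 l
  have hinv : f * h l = (h l)⁻¹ * f := (d.inv_or hff hr).resolve_left hl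
  have hfc : ∀ a, ρ f (eps ρ h l a) = eps ρ h l (ρ f a) := by
    intro a
    rw [conj_eps_apply hσ, hσ1]
  obtain ⟨r', hr'⟩ := hτ2 l
  rcases d.inv_or hgg hr' with hg1 | hg1
  · exact d.stepB hff hfc hinv hg1 h1
  · refine d.stepB hff hfc hinv (f' := g * f) ?_ h2
    calc g * f * h l = g * (f * h l) := by group
      _ = (g * h l * g⁻¹)⁻¹ * g * f := by rw [hinv]; group
      _ = h l * (g * f) := by rw [hg1]; group

theorem exists_conj_le {N : Type u} [Group N] [Finite N] {S : Sylow 2 N} {M : Subgroup N}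
    (hS : (S : Subgroup N) ≤ M) {T : Subgroup N} (hT : IsPGroup 2 T) (hTM : T ≤ M) :
    ∃ x ∈ M, ∀ t ∈ T, x * t * x⁻¹ ∈ (S : Subgroup N) := by
  obtain ⟨Q, hQ⟩ := (hT.comap_of_injective M.subtype M.subtype_injective).exists_le_sylow
  obtain ⟨x, hx⟩ := MulAction.exists_smul_eq M Q (S.subtype hS)
  refine ⟨x, x.2, fun t ht => ?_⟩
  have h1 : (⟨t, hTM ht⟩ : M) ∈ Q := hQ ht
  have h2 : x * ⟨t, hTM ht⟩ * x⁻¹ ∈ (x • Q : Sylow 2 M) := by
    rw [← SetLike.mem_coe, Sylow.coe_smul]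
    exact ⟨⟨t, hTM ht⟩, h1, rfl⟩
  rw [hx] at h2
  exact h2

theorem im_conj (x f : N) : im ρ (x * f * x⁻¹) = (im ρ f).map (ρ x : A →+ A) := by
  ext a
  constructor
  · intro ha
    obtain ⟨b, rfl⟩ := mem_im.1 ha
    refine ⟨ρ x⁻¹ b + ρ f (ρ x⁻¹ b), mem_im.2 ⟨_, rfl⟩, ?_⟩
    change ρ x (ρ x⁻¹ b + ρ f (ρ x⁻¹ b)) = _
    rw [map_add, ← rho_mul, mul_inv_cancel, rho_one, ← rho_mul, ← rho_mul]
  · rintro ⟨_, hc, rfl⟩
    obtain ⟨b, rfl⟩ := mem_im.1 hc
    refine mem_im.2 ⟨ρ x b, ?_⟩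
    change _ = ρ x (b + ρ f b)
    rw [map_add, ← rho_mul, ← rho_mul]
    congr 3
    group

/-- **(2)**: a 2-subgroup of `N` contains no four-group `⟨f, g⟩` with `[A, f] = [A, g] = [A, fg]`. -/
theorem no_four (d : Abs ρ S h Z p) {T : Subgroup N} (hT : IsPGroup 2 T) {f g : N} (hf : f ∈ T) (hg : g ∈ T)
    (hff : f * f = 1) (hgg : g * g = 1) (hfg : f * g = g * f) (hf1 : f ≠ 1)
    (h1 : im ρ f = im ρ g) (h2 : im ρ f = im ρ (g * f)) : False := by
  obtain ⟨x, -, hx⟩ := exists_conj_le (S := S) (M := ⊤) le_top hT le_top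
  refine d.no_four_S (hx f hf) (hx g hg) ?_ ?_ ?_ ?_ ?_ ?_
  · calc x * f * x⁻¹ * (x * f * x⁻¹) = x * (f * f) * x⁻¹ := by group
      _ = 1 := by rw [hff]; group
  · calc x * g * x⁻¹ * (x * g * x⁻¹) = x * (g * g) * x⁻¹ := by group
      _ = 1 := by rw [hgg]; group
  · calc x * f * x⁻¹ * (x * g * x⁻¹) = x * (f * g) * x⁻¹ := by group
      _ = x * g * x⁻¹ * (x * f * x⁻¹) := by rw [hfg]; group
  · intro h3
    apply hf1
    calc f = x⁻¹ * (x * f * x⁻¹) * x := by group
      _ = 1 := by rw [h3]; group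
  · rw [im_conj, im_conj, h1]
  · rw [show x * g * x⁻¹ * (x * f * x⁻¹) = x * (g * f) * x⁻¹ by group, im_conj, im_conj, h2]

end Abs

end Cfsg.Agent.Omega.ThmC.Four

end

section


/-!
# THEOREM C with `D = C_V(O²(P))`, case `q ≥ 4` (bb OMEGA #19922, helper399; #20115, helper914): the data

* `DatD S L Z h p` : the situation in `G` (`L = S^L`, `E = Ω₁ Z(L)`, `Z l = Z_l`, `h l = h_l`); it is
  `ThmC.Four.Dat` with a weaker condition on `Ω₁ Z(S)`.
* `AbsD ρ S h Z p` : the situation in the group `N = N_G(E) / C_G(E)` acting faithfully on `E` (written additively).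
-/

set_option autoImplicit false

namespace Cfsg.Agent.Omega.IId.ThmCQ

open Subgroup Cfsg Cfsg.Agent.ZN Cfsg.Agent.Omega.ThmC.Four

universe u

/-- The data of THEOREM C with `D`, case `q ≥ 4`. `L = S^L`, `E = Ω₁ Z(L)`. -/
structure DatD {G : Type u} [Group G] [Finite G] (S : Sylow 2 G) (L : Subgroup G) {k : ℕ}
    (Z : Fin k → Subgroup G) (h : Fin k → G) (p : ℕ) : Prop where
  prime : p.Prime
  odd : p ≠ 2
  LS : L ≤ S
  nor : (S : Subgroup G) ≤ normalizer (L : Set G)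
  cL : centralizer (L : Set G) ≤ L
  hL : ∀ l, h l ∈ normalizer (L : Set G)
  /-- the `h l` commute and have order `p` modulo `C(E)` -/
  hcomm : ∀ l m, Act (zc L) (h l * h m) (h m * h l)
  hp : ∀ l, Act (zc L) (h l ^ p) 1
  /-- `S` permutes the `⟨h l⟩` modulo `C(E)` -/
  perm : ∀ s ∈ (S : Subgroup G), ∃ σ : Equiv.Perm (Fin k), ∀ l, ∃ r : ℕ,
    Act (zc L) (s * h l * s⁻¹) (h (σ l) ^ r)
  /-- `C_S(D^) = L` (modulo `C(E)`) -/
  field : ∀ s ∈ (S : Subgroup G), (∀ l, Act (zc L) (s * h l) (h l * s)) → s ∈ L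
  ZE : ∀ l, Z l ≤ zc L
  Zne : ∀ l, Z l ≠ ⊥
  Znor : ∀ l, h l ∈ normalizer (Z l : Set G)
  Zfpf : ∀ l, ∀ z ∈ Z l, h l * z = z * h l → z = 1
  Zcent : ∀ l m, l ≠ m → ∀ z ∈ Z l, h m * z = z * h m
  /-- `S` permutes the `Z l` -/
  Zperm : ∀ s ∈ (S : Subgroup G), ∀ l, ∃ m, ∀ v, v ∈ Z l ↔ s * v * s⁻¹ ∈ Z m
  /-- `S` is transitive on the `Z l` -/
  trans : ∀ l m, ∃ s ∈ (S : Subgroup G), ∀ v, v ∈ Z l ↔ s * v * s⁻¹ ∈ Z m
  /-- `C_E(S) ≤ C_E(D^) (∑ Z l)` -/
  fix : ∀ z ∈ zc (S : Subgroup G), ∃ d ∈ zc L, (∀ l, h l * d = d * h l) ∧ ∃ w ∈ ⨆ l, Z l, z = d * w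

/-- `C_A(D^)` -/
def C0 {N A : Type u} [Group N] [AddCommGroup A] (ρ : N →* AddMonoid.End A) {k : ℕ} (h : Fin k → N) : AddSubgroup A where
  carrier := {a | ∀ l, ρ (h l) a = a}
  zero_mem' l := map_zero _
  add_mem' ha hb l := by rw [map_add, ha l, hb l]
  neg_mem' ha l := by rw [map_neg, ha l]

theorem mem_C0 {N A : Type u} [Group N] [AddCommGroup A] {ρ : N →* AddMonoid.End A} {k : ℕ} {h : Fin k → N} {a : A} :
    a ∈ C0 ρ h ↔ ∀ l, ρ (h l) a = a := Iff.rfl

/-- The data of THEOREM C with `D`, case `q ≥ 4`, in `N = N_G(E) / C_G(E)` (any finite group), acting faithfully on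
`A = E` (written additively) by `ρ`. -/
structure AbsD {N A : Type u} [Group N] [Finite N] [AddCommGroup A] [Finite A] (ρ : N →* AddMonoid.End A)
    (S : Sylow 2 N) {k : ℕ} (h : Fin k → N) (Z : Fin k → AddSubgroup A) (p : ℕ) : Prop where
  two : ∀ a : A, a + a = 0
  inj : Function.Injective ρ
  prime : p.Prime
  odd : p ≠ 2
  hcomm : ∀ l m, h l * h m = h m * h l
  hp : ∀ l, h l ^ p = 1
  perm : ∀ s ∈ (S : Subgroup N), ∃ σ : Equiv.Perm (Fin k), ∀ l, ∃ r : ℕ, s * h l * s⁻¹ = h (σ l) ^ r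
  field : ∀ s ∈ (S : Subgroup N), (∀ l, s * h l = h l * s) → s = 1
  Zne : ∀ l, Z l ≠ ⊥
  Znor : ∀ l, ∀ z ∈ Z l, ρ (h l) z ∈ Z l
  Zfpf : ∀ l, ∀ z ∈ Z l, ρ (h l) z = z → z = 0
  Zcent : ∀ l m, l ≠ m → ∀ z ∈ Z l, ρ (h m) z = z
  fix : ∀ a : A, (∀ s ∈ (S : Subgroup N), ρ s a = a) → a ∈ C0 ρ h ⊔ ⨆ l, Z l

end Cfsg.Agent.Omega.IId.ThmCQ

end

section


/-!
# THEOREM C with `D`, case `q ≥ 4`, (1): the decomposition `A = C₀ ⊕ ⨁ C_l`

`eps ρ h l` is the projection onto `C_l = [A, h l]`, `avg ρ (DD h)` the projection onto `C₀ = C_A(D^)`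
(after helper334's `ThmC/FourDec.lean`).
-/

set_option autoImplicit false
set_option linter.unusedSectionVars false
set_option linter.unusedVariables false
set_option linter.style.haveILetI false

namespace Cfsg.Agent.Omega.IId.ThmCQ

open Subgroup Cfsg Cfsg.Agent.Omega.ThmC.Four
open Cfsg.Agent.Omega.ThmC.Four.Abs (Perm zpowers_le_DD' DD_le_sup DD_le_sup' map_DL_le map_DD_le card_map_conj map_DD map_DL conj_eps pow_fix)

universe u

namespace AbsD

variable {N A : Type u} [Group N] [Finite N] [AddCommGroup A] [Finite A] {ρ : N →* AddMonoid.End A}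
  {S : Sylow 2 N} {k : ℕ} {h : Fin k → N} {Z : Fin k → AddSubgroup A} {p : ℕ}

theorem DD_comm (d : AbsD ρ S h Z p) : ∀ x ∈ DD h, ∀ y ∈ DD h, x * y = y * x := by
  have h1 : ∀ l, ∀ y ∈ DD h, h l * y = y * h l := by
    intro l y hy
    have : DD h ≤ centralizer ({h l} : Set N) := by
      rw [DD, closure_le]
      rintro _ ⟨m, rfl⟩
      rw [SetLike.mem_coe, mem_centralizer_iff]
      rintro _ rfl
      exact d.hcomm l m
    exact mem_centralizer_iff.1 (this hy) _ rfl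
  intro x hx y hy
  have : DD h ≤ centralizer ({y} : Set N) := by
    rw [DD, closure_le]
    rintro _ ⟨m, rfl⟩
    rw [SetLike.mem_coe, mem_centralizer_iff]
    rintro _ rfl
    exact (h1 m _ hy).symm
  exact (mem_centralizer_iff.1 (this hx) _ rfl).symm

theorem DD_pow (d : AbsD ρ S h Z p) : ∀ x ∈ DD h, x ^ p = 1 := by
  intro x hx
  have hx' := hx
  rw [DD] at hx
  induction hx using Subgroup.closure_induction with
  | mem z hz => obtain ⟨l, rfl⟩ := hz; exact d.hp l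
  | one => exact one_pow _
  | mul a b ha hb iha ihb =>
    have hc : Commute a b := d.DD_comm a ha b hb
    rw [hc.mul_pow, iha ha, ihb hb, one_mul]
  | inv a ha iha => rw [inv_pow, iha ha, inv_one]

theorem odd_card (d : AbsD ρ S h Z p) {X : Subgroup N} (hX : X ≤ DD h) : Odd (Nat.card X) := by
  haveI := Fact.mk d.prime
  have : IsPGroup p X := fun x => ⟨1, by
    rw [pow_one]
    exact Subtype.ext (d.DD_pow _ (hX x.2))⟩
  obtain ⟨n, hn⟩ := IsPGroup.iff_card.1 this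
  rw [hn]
  exact (d.prime.odd_of_ne_two d.odd).pow

theorem avg_mul' (d : AbsD ρ S h Z p) {X Y Z' : Subgroup N} (hX : X ≤ DD h) (hY : Y ≤ DD h) (hZ : Z' ≤ DD h)
    (hXZ : X ≤ Z') (hYZ : Y ≤ Z') (hle : Z' ≤ X ⊔ Y) : avg ρ X * avg ρ Y = avg ρ Z' :=
  avg_mul_avg ρ d.two (d.odd_card hX) (d.odd_card hY) (d.odd_card hZ) hXZ hYZ hle
    fun x hx y hy => d.DD_comm x (hX hx) y (hY hy)

theorem DL_DL (d : AbsD ρ S h Z p) {l m : Fin k} (hlm : l ≠ m) :
    avg ρ (DL h l) * avg ρ (DL h m) = avg ρ (DD h) :=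
  d.avg_mul' (DL_le h l) (DL_le h m) le_rfl (DL_le h l) (DL_le h m) (DD_le_sup hlm)

theorem self_mul (d : AbsD ρ S h Z p) {X : Subgroup N} (hX : X ≤ DD h) : avg ρ X * avg ρ X = avg ρ X :=
  d.avg_mul' hX hX hX le_rfl le_rfl le_sup_left

theorem mul_DD (d : AbsD ρ S h Z p) {X : Subgroup N} (hX : X ≤ DD h) : avg ρ X * avg ρ (DD h) = avg ρ (DD h) :=
  d.avg_mul' hX le_rfl le_rfl hX le_rfl le_sup_right

theorem DD_mul (d : AbsD ρ S h Z p) {X : Subgroup N} (hX : X ≤ DD h) : avg ρ (DD h) * avg ρ X = avg ρ (DD h) :=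
  d.avg_mul' le_rfl hX le_rfl le_rfl hX le_sup_left

theorem add_self' (d : AbsD ρ S h Z p) (T : AddMonoid.End A) : T + T = 0 := End_two d.two T

theorem eps_idem (d : AbsD ρ S h Z p) (l : Fin k) : eps ρ h l * eps ρ h l = eps ρ h l := by
  rw [eps, mul_add, add_mul, add_mul, d.self_mul (DL_le h l), d.mul_DD (DL_le h l), d.DD_mul (DL_le h l),
    d.self_mul le_rfl, d.add_self', add_zero]

theorem eps_orth (d : AbsD ρ S h Z p) {l m : Fin k} (hlm : l ≠ m) : eps ρ h l * eps ρ h m = 0 := by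
  rw [eps, eps, mul_add, add_mul, add_mul, d.DL_DL hlm, d.mul_DD (DL_le h l), d.DD_mul (DL_le h m),
    d.self_mul le_rfl, d.add_self']

theorem h_mul_eps (d : AbsD ρ S h Z p) {l m : Fin k} (hml : m ≠ l) : ρ (h m) * eps ρ h l = eps ρ h l := by
  rw [eps, mul_add, left_avg ρ (h_mem_DL h hml), left_avg ρ (h_mem_DD h m)]

theorem eps_mul_h (d : AbsD ρ S h Z p) {l m : Fin k} (hml : m ≠ l) : eps ρ h l * ρ (h m) = eps ρ h l := by
  rw [eps, add_mul, avg_right ρ (h_mem_DL h hml), avg_right ρ (h_mem_DD h m)]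

/-- An element of `N` which commutes with all `h m` commutes with `eps l`. -/
theorem commute_DD (d : AbsD ρ S h Z p) {x : N} (hx : x ∈ DD h) (l : Fin k) :
    ρ x * eps ρ h l = eps ρ h l * ρ x := by
  rw [eps, mul_add, add_mul]
  congr 1
  · refine commute_avg ρ fun y hy => ?_
    rw [← map_mul, ← map_mul, d.DD_comm x hx y (DL_le h l hy)]
  · refine commute_avg ρ fun y hy => ?_
    rw [← map_mul, ← map_mul, d.DD_comm x hx y hy]

/-! ### (1) -/

/-- `Z l` is invariant under `D`. -/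
theorem Z_inv (d : AbsD ρ S h Z p) (l : Fin k) : ∀ x ∈ DD h, ∀ z ∈ Z l, ρ x z ∈ Z l := by
  have hgen : ∀ m, ∀ z ∈ Z l, ρ (h m) z ∈ Z l := by
    intro m z hz
    by_cases hm : l = m
    · subst hm; exact d.Znor l z hz
    · rw [d.Zcent l m hm z hz]; exact hz
  intro x hx
  rw [DD] at hx
  induction hx using Subgroup.closure_induction with
  | mem y hy => obtain ⟨m, rfl⟩ := hy; exact hgen m
  | one => intro z hz; rw [map_one]; exact hz
  | mul a b ha hb iha ihb => intro z hz; rw [map_mul]; exact iha _ (ihb z hz)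
  | inv a ha iha =>
    intro z hz
    -- `a⁻¹ = a ^ (p - 1)`
    have h1 : a⁻¹ = a ^ (p - 1) := by
      have h2 := d.DD_pow a ha
      have h3 : a ^ (p - 1) * a = 1 := by
        rw [← pow_succ, Nat.sub_add_cancel d.prime.one_lt.le, h2]
      exact (eq_inv_of_mul_eq_one_left h3).symm
    rw [h1]
    generalize p - 1 = n
    induction n with
    | zero => rw [pow_zero, map_one]; exact hz
    | succ n ih => rw [pow_succ', map_mul]; exact iha _ ih

theorem avg_Z (d : AbsD ρ S h Z p) {l : Fin k} {X : Subgroup N} (hX : X ≤ DD h) (hl : h l ∈ X) {z : A}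
    (hz : z ∈ Z l) : avg ρ X z = 0 := by
  refine d.Zfpf l _ (avg_mem ρ (fun x hx => d.Z_inv l x (hX hx)) hz) ?_
  exact fix_avg_apply ρ hl z

theorem avg_DL_Z (d : AbsD ρ S h Z p) {l : Fin k} {z : A} (hz : z ∈ Z l) : avg ρ (DL h l) z = z := by
  refine avg_apply_of_fix ρ d.two (d.odd_card (DL_le h l)) fun x hx => ?_
  rw [DL] at hx
  induction hx using Subgroup.closure_induction with
  | mem y hy => obtain ⟨m, hm, rfl⟩ := hy; exact d.Zcent l m (fun e => hm e.symm) z hz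
  | one => rw [map_one]; rfl
  | mul a b ha hb iha ihb => rw [map_mul]; change ρ a (ρ b z) = z; rw [ihb, iha]
  | inv a ha iha => exact pow_fix iha ⟨-1, by simp⟩

theorem eps_Z (d : AbsD ρ S h Z p) {l : Fin k} {z : A} (hz : z ∈ Z l) : eps ρ h l z = z := by
  change avg ρ (DL h l) z + avg ρ (DD h) z = z
  rw [d.avg_DL_Z hz, d.avg_Z le_rfl (h_mem_DD h l) hz, add_zero]

theorem eps_Z' (d : AbsD ρ S h Z p) {l m : Fin k} (hml : m ≠ l) {z : A} (hz : z ∈ Z l) : eps ρ h m z = 0 := by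
  change avg ρ (DL h m) z + avg ρ (DD h) z = 0
  rw [d.avg_Z (DL_le h m) (h_mem_DL h hml.symm) hz, d.avg_Z le_rfl (h_mem_DD h l) hz, add_zero]

theorem eps_ne (d : AbsD ρ S h Z p) (l : Fin k) : ∃ a, eps ρ h l a ≠ 0 := by
  obtain ⟨a, ha⟩ := AddSubgroup.ne_bot_iff_exists_ne_zero.1 (d.Zne l)
  refine ⟨a, ?_⟩
  rw [d.eps_Z a.2]
  exact fun h => ha (Subtype.ext h)

theorem DD_mul_eps (d : AbsD ρ S h Z p) (l : Fin k) : avg ρ (DD h) * eps ρ h l = 0 := by
  rw [eps, mul_add, d.DD_mul (DL_le h l), d.self_mul le_rfl, d.add_self']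

theorem eps_mul_DD (d : AbsD ρ S h Z p) (l : Fin k) : eps ρ h l * avg ρ (DD h) = 0 := by
  rw [eps, add_mul, d.mul_DD (DL_le h l), d.self_mul le_rfl, d.add_self']

/-- `C₀` is fixed by `D^`. -/
theorem C0_fix {a : A} (ha : a ∈ C0 ρ h) : ∀ x ∈ DD h, ρ x a = a := by
  intro x hx
  rw [DD] at hx
  induction hx using Subgroup.closure_induction with
  | mem y hy => obtain ⟨m, rfl⟩ := hy; exact ha m
  | one => rw [map_one]; rfl
  | mul a b ha hb iha ihb => rw [map_mul]; change ρ a (ρ b _) = _; rw [ihb, iha]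
  | inv a ha iha => exact pow_fix iha ⟨-1, by simp⟩

theorem avg_C0 (d : AbsD ρ S h Z p) {X : Subgroup N} (hX : X ≤ DD h) {a : A} (ha : a ∈ C0 ρ h) : avg ρ X a = a :=
  avg_apply_of_fix ρ d.two (d.odd_card hX) fun x hx => C0_fix ha x (hX hx)

theorem eps_C0 (d : AbsD ρ S h Z p) (l : Fin k) {a : A} (ha : a ∈ C0 ρ h) : eps ρ h l a = 0 := by
  change avg ρ (DL h l) a + avg ρ (DD h) a = 0
  rw [d.avg_C0 (DL_le h l) ha, d.avg_C0 le_rfl ha, d.two]

/-- **(1)** `A = C₀ ⊕ ⨁ C_l`. -/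
theorem sum_eps (d : AbsD ρ S h Z p) : avg ρ (DD h) + ∑ l, eps ρ h l = 1 := by
  classical
  set E₁ : AddMonoid.End A := ∑ l, eps ρ h l with hE₁
  set E : AddMonoid.End A := avg ρ (DD h) + E₁ with hE
  have hEE₁ : E₁ * E₁ = E₁ := by
    rw [hE₁, Finset.sum_mul]
    refine Finset.sum_congr rfl fun l _ => ?_
    rw [Finset.mul_sum, Finset.sum_eq_single l (fun m _ hm => d.eps_orth hm.symm)
      (fun h => (h (Finset.mem_univ l)).elim), d.eps_idem]
  have h01 : avg ρ (DD h) * E₁ = 0 := by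
    rw [hE₁, Finset.mul_sum]
    exact Finset.sum_eq_zero fun l _ => d.DD_mul_eps l
  have h10 : E₁ * avg ρ (DD h) = 0 := by
    rw [hE₁, Finset.sum_mul]
    exact Finset.sum_eq_zero fun l _ => d.eps_mul_DD l
  have hEE : E * E = E := by
    rw [hE, mul_add, add_mul, add_mul, d.self_mul le_rfl, h10, h01, hEE₁, add_zero, zero_add]
  have hES : ∀ s ∈ (S : Subgroup N), ρ s * E = E * ρ s := by
    intro s hs
    obtain ⟨σ, hσ⟩ := d.perm s hs
    rw [hE, mul_add, add_mul, hE₁, Finset.mul_sum, Finset.sum_mul]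
    congr 1
    · rw [avg_conj, map_DD hσ]
    · calc ∑ l, ρ s * eps ρ h l = ∑ l, eps ρ h (σ l) * ρ s := Finset.sum_congr rfl fun l _ => conj_eps hσ l
        _ = _ := Equiv.sum_comp σ fun l => eps ρ h l * ρ s
  have hEapp : ∀ a, E a = avg ρ (DD h) a + ∑ l, eps ρ h l a := by
    intro a
    rw [hE, hE₁]
    change avg ρ (DD h) a + (∑ l, eps ρ h l : AddMonoid.End A) a = _
    congr 1
    exact AddMonoidHom.finsetSum_apply _ _ _
  have hEZ : ∀ a ∈ C0 ρ h ⊔ ⨆ l, Z l, E a = a := by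
    intro a ha
    have : C0 ρ h ⊔ ⨆ l, Z l ≤ (E : A →+ A).eqLocus (AddMonoidHom.id A) := by
      refine sup_le (fun a ha => ?_) (iSup_le fun l z hz => ?_)
      · change E a = a
        rw [hEapp, d.avg_C0 le_rfl ha, Finset.sum_eq_zero fun l _ => d.eps_C0 l ha, add_zero]
      · change E z = z
        rw [hEapp, d.avg_Z le_rfl (h_mem_DD h l) hz, zero_add, Finset.sum_eq_single l (fun m _ hm => d.eps_Z' hm hz)
          (fun h => (h (Finset.mem_univ l)).elim), d.eps_Z hz]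
    exact this ha
  have hker : (E : A →+ A).ker = ⊥ := by
    by_contra hne
    obtain ⟨a, ha, ha0, hfix⟩ := exists_fix (ρ := ρ) d.two S.isPGroup' (K := (E : A →+ A).ker) (by
      intro s hs a ha
      have h1 : E a = 0 := ha
      change E (ρ s a) = 0
      have h2 := congrArg (fun T : AddMonoid.End A => T a) (hES s hs)
      change ρ s (E a) = E (ρ s a) at h2
      rw [← h2, h1, map_zero]) hne
    have h1 : E a = 0 := ha
    rw [hEZ a (d.fix a hfix)] at h1
    exact ha0 h1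
  ext a
  have h1 : a + E a ∈ (E : A →+ A).ker := by
    change E (a + E a) = 0
    have h2 := congrArg (fun T : AddMonoid.End A => T a) hEE
    change E (E a) = E a at h2
    rw [map_add, h2, d.two]
  rw [hker, AddSubgroup.mem_bot] at h1
  change E a = a
  have h3 := d.two a
  calc E a = a + a + E a := by rw [h3, zero_add]
    _ = a + (a + E a) := by rw [add_assoc]
    _ = a := by rw [h1, add_zero]

theorem avg_h_mul_eps (d : AbsD ρ S h Z p) (l : Fin k) : avg ρ (zpowers (h l)) * eps ρ h l = 0 := by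
  rw [eps, mul_add, d.mul_DD (zpowers_le_DD h l),
    d.avg_mul' (zpowers_le_DD h l) (DL_le h l) le_rfl (zpowers_le_DD h l) (DL_le h l) (DD_le_sup' l), d.add_self']

/-- `eps l = 1 + avg ⟨h l⟩`. -/
theorem eps_eq (d : AbsD ρ S h Z p) (l : Fin k) : eps ρ h l = 1 + avg ρ (zpowers (h l)) := by
  classical
  have h1 : avg ρ (zpowers (h l)) = avg ρ (DD h) + ∑ m, avg ρ (zpowers (h l)) * eps ρ h m := by
    calc avg ρ (zpowers (h l)) = avg ρ (zpowers (h l)) * (avg ρ (DD h) + ∑ l, eps ρ h l) := by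
          rw [d.sum_eps, mul_one]
      _ = _ := by rw [mul_add, d.mul_DD (zpowers_le_DD h l), Finset.mul_sum]
  have h2 : eps ρ h l + avg ρ (zpowers (h l)) = 1 := by
    rw [h1, ← d.sum_eps, ← Finset.add_sum_erase Finset.univ _ (Finset.mem_univ l),
      ← Finset.add_sum_erase (a := l) Finset.univ (fun m => eps ρ h m) (Finset.mem_univ l), d.avg_h_mul_eps, zero_add,
      add_left_comm]
    congr 2
    refine Finset.sum_congr rfl fun m hm => ?_
    have hml : l ≠ m := (Finset.ne_of_mem_erase hm).symm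
    refine avg_mul_of_fix ρ d.two (d.odd_card (zpowers_le_DD h l)) fun x hx => ?_
    ext a
    exact pow_fix (ρ := ρ) (congrArg (fun T : AddMonoid.End A => T a) (d.h_mul_eps hml)) hx
  calc eps ρ h l = eps ρ h l + (avg ρ (zpowers (h l)) + avg ρ (zpowers (h l))) := by rw [d.add_self', add_zero]
    _ = _ := by rw [← add_assoc, h2]

/-- `h l` is fixed-point-free on `C_l`. -/
theorem fpf (d : AbsD ρ S h Z p) {l : Fin k} {a : A} (ha : ρ (h l) (eps ρ h l a) = eps ρ h l a) :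
    eps ρ h l a = 0 := by
  have h1 : avg ρ (zpowers (h l)) (eps ρ h l a) = eps ρ h l a :=
    avg_apply_of_fix ρ d.two (d.odd_card (zpowers_le_DD h l)) fun x hx => pow_fix ha hx
  rw [← h1]
  exact congrArg (fun T : AddMonoid.End A => T a) (d.avg_h_mul_eps l)

/-- An element of `N` which commutes with `h l` commutes with `eps l`. -/
theorem commute_eps (d : AbsD ρ S h Z p) {x : N} {l : Fin k} (hx : x * h l = h l * x) :
    ρ x * eps ρ h l = eps ρ h l * ρ x := by
  rw [d.eps_eq, mul_add, add_mul, mul_one, one_mul]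
  congr 1
  refine commute_avg ρ fun y hy => ?_
  obtain ⟨n, rfl⟩ := hy
  rw [← map_mul, ← map_mul]
  congr 1
  exact ((show Commute x (h l) from hx).zpow_right n)

theorem h_ne (d : AbsD ρ S h Z p) (l : Fin k) : h l ≠ 1 := by
  intro he
  obtain ⟨a, ha⟩ := d.eps_ne l
  refine ha (d.fpf ?_)
  rw [he, map_one]
  rfl

theorem orderOf_h (d : AbsD ρ S h Z p) (l : Fin k) : orderOf (h l) = p := by
  haveI := Fact.mk d.prime
  exact orderOf_eq_prime (d.hp l) (d.h_ne l)

end AbsD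

end Cfsg.Agent.Omega.IId.ThmCQ

end

section


/-!
# THEOREM C with `D`, case `q ≥ 4`, (2): no four-group all of whose involutions have the same commutator space
(after helper334's `ThmC/FourTwo.lean`)
-/

set_option autoImplicit false
set_option linter.unusedSectionVars false
set_option linter.unusedVariables false

namespace Cfsg.Agent.Omega.IId.ThmCQ

open Subgroup Cfsg Cfsg.Agent.Omega.ThmC.Four
open Cfsg.Agent.Omega.ThmC.Four.Abs (Perm Perm.mul conj_eps pow_fix conj_eps_apply sq_apply fix_im exists_conj_le im_conj)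

universe u

namespace AbsD

variable {N A : Type u} [Group N] [Finite N] [AddCommGroup A] [Finite A] {ρ : N →* AddMonoid.End A}
  {S : Sylow 2 N} {k : ℕ} {h : Fin k → N} {Z : Fin k → AddSubgroup A} {p : ℕ}

theorem idem_apply (d : AbsD ρ S h Z p) (l : Fin k) (a : A) : eps ρ h l (eps ρ h l a) = eps ρ h l a :=
  congrArg (fun T : AddMonoid.End A => T a) (d.eps_idem l)

theorem orth_apply (d : AbsD ρ S h Z p) {l m : Fin k} (hlm : l ≠ m) (a : A) : eps ρ h l (eps ρ h m a) = 0 :=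
  congrArg (fun T : AddMonoid.End A => T a) (d.eps_orth hlm)

theorem stepA1 (d : AbsD ρ S h Z p) {f g : N} {σ τ : Equiv.Perm (Fin k)} (hf : Perm h f σ) (hg : Perm h g τ)
    (hgg : g * g = 1) (him : im ρ f ≤ im ρ g) {x : Fin k} (hx : σ x ≠ x) : τ x ≠ x := by
  intro hτ
  have key : ∀ a, ∃ b, eps ρ h x a = eps ρ h x b + ρ g (eps ρ h x b) := by
    intro a
    obtain ⟨b, hb⟩ := mem_im.1 (him (mem_im.2 ⟨eps ρ h x a, rfl⟩))
    refine ⟨b, ?_⟩
    have h1 := congrArg (eps ρ h x) hb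
    rw [map_add, map_add, d.idem_apply, conj_eps_apply hf, d.orth_apply hx.symm, add_zero] at h1
    rw [conj_eps_apply hg, hτ]
    exact h1.symm
  have hfix : ∀ a, ρ g (eps ρ h x a) = eps ρ h x a := by
    intro a
    obtain ⟨b, hb⟩ := key a
    rw [hb, map_add, sq_apply hgg, add_comm]
  obtain ⟨a, ha⟩ := d.eps_ne x
  obtain ⟨b, hb⟩ := key a
  rw [hfix, d.two] at hb
  exact ha hb

theorem stepA2 (d : AbsD ρ S h Z p) {f g : N} {σ τ : Equiv.Perm (Fin k)} (hf : Perm h f σ) (hg : Perm h g τ)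
    (hgg : g * g = 1) (him : im ρ f ≤ im ρ g) {x : Fin k} (hx : σ x ≠ x) (hx' : τ x ≠ x) : τ (σ x) = x := by
  by_contra hne
  obtain ⟨a, ha⟩ := d.eps_ne x
  have h1 := fix_im hgg (him (mem_im.2 ⟨eps ρ h x a, rfl⟩))
  have h2 := congrArg (eps ρ h x) h1
  rw [map_add, map_add, map_add, d.idem_apply, conj_eps_apply hf, d.orth_apply hx.symm, add_zero,
    conj_eps_apply hg, conj_eps_apply hg, d.orth_apply (Ne.symm hx'), d.orth_apply (Ne.symm hne), add_zero] at h2
  exact ha h2.symm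

theorem stepA (d : AbsD ρ S h Z p) {f g : N} {σ τ : Equiv.Perm (Fin k)} (hf : Perm h f σ) (hg : Perm h g τ)
    (hgg : g * g = 1) (hgf : g * f * (g * f) = 1) (h1 : im ρ f = im ρ g) (h2 : im ρ f = im ρ (g * f))
    (x : Fin k) : σ x = x := by
  by_contra hx
  have h3 := d.stepA1 hf hg hgg h1.le hx
  have h4 := d.stepA2 hf hg hgg h1.le hx h3
  exact d.stepA1 hf (hg.mul hf) hgf h2.le hx h4

theorem inv_or (d : AbsD ρ S h Z p) {f : N} (hff : f * f = 1) {l : Fin k} {r : ℕ}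
    (hr : f * h l * f⁻¹ = h l ^ r) : f * h l = h l * f ∨ f * h l = (h l)⁻¹ * f := by
  have hfi : f⁻¹ = f := by rw [inv_eq_iff_mul_eq_one, hff]
  have h1 : h l ^ ((r : ℤ) * r) = h l ^ (1 : ℤ) := by
    have e1 : f * (f * h l * f⁻¹) * f⁻¹ = h l := by
      calc f * (f * h l * f⁻¹) * f⁻¹ = (f * f) * h l * (f * f)⁻¹ := by group
        _ = h l := by rw [hff]; group
    have e2 : f * h l ^ r * f⁻¹ = h l ^ (r * r) := by
      rw [← conj_pow, hr, ← pow_mul]
    rw [hr, e2] at e1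
    rw [zpow_one, ← Nat.cast_mul, zpow_natCast, e1]
  rw [← orderOf_dvd_sub_iff_zpow_eq_zpow, d.orderOf_h] at h1
  have h2 : (r : ℤ) * r - 1 = (r - 1) * (r - (-1)) := by ring
  rw [h2] at h1
  have key : ∀ n : ℤ, (p : ℤ) ∣ r - n → f * h l = h l ^ n * f := by
    intro n hn
    rw [← d.orderOf_h l, orderOf_dvd_sub_iff_zpow_eq_zpow, zpow_natCast, ← hr] at hn
    rw [← hn, inv_mul_cancel_right]
  rcases (Nat.prime_iff_prime_int.1 d.prime).dvd_or_dvd h1 with h3 | h3
  · left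
    rw [key 1 h3, zpow_one]
  · right
    rw [key (-1) h3, zpow_neg_one]

theorem sq_fix (d : AbsD ρ S h Z p) {l : Fin k} {a : A} (ha : ρ (h l) (ρ (h l) a) = a) : ρ (h l) a = a := by
  have h1 : ρ (h l ^ 2) a = a := by rw [pow_two, rho_mul, ha]
  refine pow_fix h1 ?_
  obtain ⟨m, hm⟩ := d.prime.odd_of_ne_two d.odd
  refine ⟨(m + 1 : ℕ), ?_⟩
  change (h l ^ 2) ^ ((m + 1 : ℕ) : ℤ) = h l
  rw [zpow_natCast, ← pow_mul, show 2 * (m + 1) = p + 1 by omega, pow_succ, d.hp, one_mul]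

theorem fpf' (d : AbsD ρ S h Z p) {l : Fin k} {a : A} (he : eps ρ h l a = a) (ha : ρ (h l) a = a) : a = 0 := by
  have := d.fpf (l := l) (a := a) (by rw [he, ha])
  rwa [he] at this

theorem commute_eps_apply (d : AbsD ρ S h Z p) {x : N} {l : Fin k} (hx : x * h l = h l * x) (a : A) :
    ρ x (eps ρ h l a) = eps ρ h l (ρ x a) :=
  congrArg (fun T : AddMonoid.End A => T a) (d.commute_eps hx)

/-- If `f` inverts `h l` and `im f = im f''` where `f''` commutes with `h l`: contradiction. -/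
theorem stepB (d : AbsD ρ S h Z p) {f f' : N} (hff : f * f = 1) {l : Fin k}
    (hfc : ∀ a, ρ f (eps ρ h l a) = eps ρ h l (ρ f a)) (hf : f * h l = (h l)⁻¹ * f)
    (hf' : f' * h l = h l * f') (him : im ρ f = im ρ f') : False := by
  -- `f` is trivial on the vectors `c` with `f c = c`, `f (h c) = h c`
  have key : ∀ c, eps ρ h l c = c → ρ f c = c → ρ f (ρ (h l) c) = ρ (h l) c → c = 0 := by
    intro c hc h1 h2
    refine d.fpf' hc (d.sq_fix ?_)
    have h3 : ρ f (ρ (h l) c) = ρ (h l)⁻¹ c := by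
      rw [← rho_mul, hf, rho_mul, h1]
    rw [h2] at h3
    rw [h3, ← rho_mul, mul_inv_cancel, rho_one]
  have hh : ∀ a, ρ (h l) (eps ρ h l a) = eps ρ h l (ρ (h l) a) := fun a => d.commute_eps_apply rfl a
  have h1 : ∀ a, ρ f (eps ρ h l a) = eps ρ h l a := by
    intro a
    have h0 : eps ρ h l a + ρ f (eps ρ h l a) = 0 := by
      set c := eps ρ h l a + ρ f (eps ρ h l a) with hc
      have hcim : c ∈ im ρ f := mem_im.2 ⟨_, rfl⟩
      have hce : eps ρ h l c = c := by rw [hc, map_add, d.idem_apply, hfc, d.idem_apply]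
      refine key c hce (fix_im hff hcim) ?_
      refine fix_im hff ?_
      rw [him] at hcim ⊢
      obtain ⟨b, hb⟩ := mem_im.1 hcim
      refine mem_im.2 ⟨ρ (h l) b, ?_⟩
      rw [← hb, map_add, ← rho_mul, ← rho_mul, hf']
    calc ρ f (eps ρ h l a) = (eps ρ h l a + eps ρ h l a) + ρ f (eps ρ h l a) := by rw [d.two, zero_add]
      _ = eps ρ h l a := by rw [add_assoc, h0, add_zero]
  obtain ⟨a, ha⟩ := d.eps_ne l
  refine ha (key _ (d.idem_apply l a) (h1 a) ?_)
  rw [hh, h1]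

theorem no_four_S (d : AbsD ρ S h Z p) {f g : N} (hf : f ∈ (S : Subgroup N)) (hg : g ∈ (S : Subgroup N))
    (hff : f * f = 1) (hgg : g * g = 1) (hfg : f * g = g * f) (hf1 : f ≠ 1)
    (h1 : im ρ f = im ρ g) (h2 : im ρ f = im ρ (g * f)) : False := by
  obtain ⟨σ, hσ⟩ := d.perm f hf
  obtain ⟨τ, hτ⟩ := d.perm g hg
  have hgf : g * f * (g * f) = 1 := by
    calc g * f * (g * f) = g * (f * g) * f := by group
      _ = (g * g) * (f * f) := by rw [hfg]; group
      _ = 1 := by rw [hff, hgg, one_mul]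
  have hfg' : f * g * (f * g) = 1 := by rw [hfg]; exact hgf
  have hσ1 : ∀ x, σ x = x := d.stepA hσ hτ hgg hgf h1 h2
  have hτ1 : ∀ x, τ x = x := d.stepA hτ hσ hff hfg' h1.symm (by rw [← h1, h2, hfg])
  have hσ2 : ∀ l, ∃ r : ℕ, f * h l * f⁻¹ = h l ^ r := fun l => by
    obtain ⟨r, hr⟩ := hσ l
    exact ⟨r, by rw [hr, hσ1]⟩
  have hτ2 : ∀ l, ∃ r : ℕ, g * h l * g⁻¹ = h l ^ r := fun l => by
    obtain ⟨r, hr⟩ := hτ l
    exact ⟨r, by rw [hr, hτ1]⟩
  -- some `h l` is inverted by `f`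
  have hl : ∃ l, ¬ f * h l = h l * f := by
    by_contra hcon
    push Not at hcon
    exact hf1 (d.field f hf hcon)
  obtain ⟨l, hl⟩ := hl
  obtain ⟨r, hr⟩ := hσ2 l
  have hinv : f * h l = (h l)⁻¹ * f := (d.inv_or hff hr).resolve_left hl
  have hfc : ∀ a, ρ f (eps ρ h l a) = eps ρ h l (ρ f a) := by
    intro a
    rw [conj_eps_apply hσ, hσ1]
  obtain ⟨r', hr'⟩ := hτ2 l
  rcases d.inv_or hgg hr' with hg1 | hg1
  · exact d.stepB hff hfc hinv hg1 h1
  · refine d.stepB hff hfc hinv (f' := g * f) ?_ h2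
    calc g * f * h l = g * (f * h l) := by group
      _ = (g * h l * g⁻¹)⁻¹ * g * f := by rw [hinv]; group
      _ = h l * (g * f) := by rw [hg1]; group

/-- **(2)**: a 2-subgroup of `N` contains no four-group `⟨f, g⟩` with `[A, f] = [A, g] = [A, fg]`. -/
theorem no_four (d : AbsD ρ S h Z p) {T : Subgroup N} (hT : IsPGroup 2 T) {f g : N} (hf : f ∈ T) (hg : g ∈ T)
    (hff : f * f = 1) (hgg : g * g = 1) (hfg : f * g = g * f) (hf1 : f ≠ 1)
    (h1 : im ρ f = im ρ g) (h2 : im ρ f = im ρ (g * f)) : False := by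
  obtain ⟨x, -, hx⟩ := exists_conj_le (S := S) (M := ⊤) le_top hT le_top
  refine d.no_four_S (hx f hf) (hx g hg) ?_ ?_ ?_ ?_ ?_ ?_
  · calc x * f * x⁻¹ * (x * f * x⁻¹) = x * (f * f) * x⁻¹ := by group
      _ = 1 := by rw [hff]; group
  · calc x * g * x⁻¹ * (x * g * x⁻¹) = x * (g * g) * x⁻¹ := by group
      _ = 1 := by rw [hgg]; group
  · calc x * f * x⁻¹ * (x * g * x⁻¹) = x * (f * g) * x⁻¹ := by group
      _ = x * g * x⁻¹ * (x * f * x⁻¹) := by rw [hfg]; group
  · intro h3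
    apply hf1
    calc f = x⁻¹ * (x * f * x⁻¹) * x := by group
      _ = 1 := by rw [h3]; group
  · rw [im_conj, im_conj, h1]
  · rw [show x * g * x⁻¹ * (x * f * x⁻¹) = x * (g * f) * x⁻¹ by group, im_conj, im_conj, h2]

end AbsD

end Cfsg.Agent.Omega.IId.ThmCQ

end

end

-- merged: Cfsg.Agent.Mrg.Omega.ThmC.FourCore
section

section


/-!
# THEOREM C, case `q ≥ 4`, (3)(b): the ring computation

`e`, `f` orthogonal idempotents, `u` an involution which commutes with `e + f`, `D` central, `H = D` on the image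
of `e`, `H = 1` on the image of `1 - e`.  If `u` commutes with `v = H u H⁻¹`, then `b₀ = u v`, `b₁ = H b₀ H⁻¹` and
`b₀ b₁` have the same image of `b - 1`.
-/

set_option autoImplicit false

namespace Cfsg.Agent.Omega.ThmC.Four

universe u

theorem eq_of_add {R : Type*} [Ring R] (h2 : ∀ x : R, x + x = 0) {x y : R} (h : x + y = 0) : x = y := by
  calc x = x + (y + y) := by rw [h2, add_zero]
    _ = y := by rw [← add_assoc, h, zero_add]

theorem core {R : Type*} [Ring R] (h2 : ∀ x : R, x + x = 0) {e f u D D' H H' : R}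
    (ee : e * e = e) (ff : f * f = f) (ef : e * f = 0) (fe : f * e = 0) (uu : u * u = 1)
    (ug : u * (e + f) = (e + f) * u) (DD : D * D' = 1) (DD' : D' * D = 1)
    (De : D * e = e * D) (Df : D * f = f * D) (Du : D * u = u * D) (DH : D * H = H * D) (DH' : D * H' = H' * D)
    (HH' : H' * H = 1) (He : H * e = D * e) (Hf : H * f = f)
    (Hg : H * (1 + (e + f)) = 1 + (e + f))
    (comm : u * (H * u * H') = H * u * H' * u)
    (ce : ∀ T : R, e * T = T → D * T = T → T = 0) (cf : ∀ T : R, f * T = T → D * T = T → T = 0)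
    (ce2 : ∀ T : R, e * T = T → D * (D * T) = T → T = 0)
    (cf2 : ∀ T : R, f * T = T → D * (D * T) = T → T = 0) {b₀ b₁ : R} (hb₀ : b₀ = u * (H * u * H'))
    (hb₁ : b₁ = H * b₀ * H') :
    ((1 + b₁) * e = D' * ((1 + b₀) * e) ∧ (1 + b₁) * f = D * ((1 + b₀) * f)) ∧
    ((1 + b₀ * b₁) * e = (1 + D') * ((1 + b₀) * e) ∧ (1 + b₀ * b₁) * f = (1 + D) * ((1 + b₀) * f)) ∧
    ((1 + b₀) * (1 + (e + f)) = 0 ∧ (1 + b₁) * (1 + (e + f)) = 0 ∧ (1 + b₀ * b₁) * (1 + (e + f)) = 0) ∧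
    D * b₀ = b₀ * D := by
  have D'_comm : ∀ {x : R}, D * x = x * D → D' * x = x * D' := by
    intro x hx
    calc D' * x = D' * x * (D * D') := by rw [DD, mul_one]
      _ = D' * (x * D) * D' := by noncomm_ring
      _ = D' * (D * x) * D' := by rw [hx]
      _ = (D' * D) * x * D' := by noncomm_ring
      _ = x * D' := by rw [DD', one_mul]
  have De' := D'_comm De
  have Df' := D'_comm Df
  have Du' := D'_comm Du
  have DH1 := D'_comm DH
  have H'e : H' * e = D' * e := by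
    calc H' * e = D' * (D * (H' * e)) := by rw [← mul_assoc D', DD', one_mul]
      _ = D' * (H' * (D * e)) := by rw [← mul_assoc D H', DH', mul_assoc H' D]
      _ = D' * ((H' * H) * e) := by rw [← He, mul_assoc H']
      _ = D' * e := by rw [HH', one_mul]
  have H'f : H' * f = f := by
    calc H' * f = H' * (H * f) := by rw [Hf]
      _ = f := by rw [← mul_assoc, HH', one_mul]
  have H'g : H' * (1 + (e + f)) = 1 + (e + f) := by
    calc H' * (1 + (e + f)) = H' * (H * (1 + (e + f))) := by rw [Hg]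
      _ = 1 + (e + f) := by rw [← mul_assoc, HH', one_mul]
  obtain ⟨α, hα⟩ : ∃ α, α = e * u * e := ⟨_, rfl⟩
  obtain ⟨δ, hδ⟩ : ∃ δ, δ = f * u * f := ⟨_, rfl⟩
  obtain ⟨P, hP⟩ : ∃ P, P = e * u * f := ⟨_, rfl⟩
  obtain ⟨Q, hQ⟩ : ∃ Q, Q = f * u * e := ⟨_, rfl⟩
  have eα : e * α = α := by rw [hα, ← mul_assoc, ← mul_assoc, ee]
  have eP : e * P = P := by rw [hP, ← mul_assoc, ← mul_assoc, ee]
  have fδ : f * δ = δ := by rw [hδ, ← mul_assoc, ← mul_assoc, ff]
  have fQ : f * Q = Q := by rw [hQ, ← mul_assoc, ← mul_assoc, ff]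
  have fα : f * α = 0 := by rw [hα, ← mul_assoc, ← mul_assoc, fe, zero_mul, zero_mul]
  have fP : f * P = 0 := by rw [hP, ← mul_assoc, ← mul_assoc, fe, zero_mul, zero_mul]
  have eδ : e * δ = 0 := by rw [hδ, ← mul_assoc, ← mul_assoc, ef, zero_mul, zero_mul]
  have eQ : e * Q = 0 := by rw [hQ, ← mul_assoc, ← mul_assoc, ef, zero_mul, zero_mul]
  have ue : u * e = α + Q := by
    calc u * e = u * (e + f) * e := by rw [mul_assoc, add_mul, ee, fe, add_zero]
      _ = (e + f) * u * e := by rw [ug]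
      _ = α + Q := by rw [hα, hQ, add_mul, add_mul]
  have uf : u * f = P + δ := by
    calc u * f = u * (e + f) * f := by rw [mul_assoc, add_mul, ff, ef, zero_add]
      _ = (e + f) * u * f := by rw [ug]
      _ = P + δ := by rw [hP, hδ, add_mul, add_mul]
  have Dα : D * α = α * D := by
    rw [hα, ← mul_assoc, ← mul_assoc, De, mul_assoc e D u, Du, mul_assoc e, mul_assoc u D e, De]; noncomm_ring
  have Dδ : D * δ = δ * D := by
    rw [hδ, ← mul_assoc, ← mul_assoc, Df, mul_assoc f D u, Du, mul_assoc f, mul_assoc u D f, Df]; noncomm_ring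
  have DP : D * P = P * D := by
    rw [hP, ← mul_assoc, ← mul_assoc, De, mul_assoc e D u, Du, mul_assoc e, mul_assoc u D f, Df]; noncomm_ring
  have DQ : D * Q = Q * D := by
    rw [hQ, ← mul_assoc, ← mul_assoc, Df, mul_assoc f D u, Du, mul_assoc f, mul_assoc u D e, De]; noncomm_ring
  have Dα' := D'_comm Dα
  have Dδ' := D'_comm Dδ
  have DP' := D'_comm DP
  have DQ' := D'_comm DQ
  have Hα : H * α = D * α := by
    calc H * α = H * (e * α) := by rw [eα]
      _ = D * (e * α) := by rw [← mul_assoc, He, mul_assoc]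
      _ = D * α := by rw [eα]
  have HP : H * P = D * P := by
    calc H * P = H * (e * P) := by rw [eP]
      _ = D * (e * P) := by rw [← mul_assoc, He, mul_assoc]
      _ = D * P := by rw [eP]
  have Hδ : H * δ = δ := by
    calc H * δ = H * (f * δ) := by rw [fδ]
      _ = δ := by rw [← mul_assoc, Hf, fδ]
  have HQ : H * Q = Q := by
    calc H * Q = H * (f * Q) := by rw [fQ]
      _ = Q := by rw [← mul_assoc, Hf, fQ]
  obtain ⟨v, hv⟩ : ∃ v, v = H * u * H' := ⟨_, rfl⟩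
  rw [← hv] at comm hb₀
  have ve : v * e = α + D' * Q := by
    calc v * e = H * u * (H' * e) := by rw [hv, mul_assoc]
      _ = H * (u * D') * e := by rw [H'e]; noncomm_ring
      _ = (H * D') * (u * e) := by rw [← Du']; noncomm_ring
      _ = D' * (H * α + H * Q) := by rw [← DH1, ue]; noncomm_ring
      _ = D' * D * α + D' * Q := by rw [Hα, HQ]; noncomm_ring
      _ = α + D' * Q := by rw [DD', one_mul]
  have vf : v * f = D * P + δ := by
    calc v * f = H * u * (H' * f) := by rw [hv, mul_assoc]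
      _ = H * (u * f) := by rw [H'f, mul_assoc]
      _ = D * P + δ := by rw [uf, mul_add, HP, Hδ]
  have uα : u * α = α * α + Q * α := by
    calc u * α = (u * e) * α := by rw [mul_assoc, eα]
      _ = _ := by rw [ue, add_mul]
  have uQ : u * Q = P * Q + δ * Q := by
    calc u * Q = (u * f) * Q := by rw [mul_assoc, fQ]
      _ = _ := by rw [uf, add_mul]
  have uP : u * P = α * P + Q * P := by
    calc u * P = (u * e) * P := by rw [mul_assoc, eP]
      _ = _ := by rw [ue, add_mul]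
  have uδ : u * δ = P * δ + δ * δ := by
    calc u * δ = (u * f) * δ := by rw [mul_assoc, fδ]
      _ = _ := by rw [uf, add_mul]
  have vα : v * α = α * α + D' * (Q * α) := by
    calc v * α = (v * e) * α := by rw [mul_assoc, eα]
      _ = _ := by rw [ve, add_mul, mul_assoc]
  have vQ : v * Q = D * (P * Q) + δ * Q := by
    calc v * Q = (v * f) * Q := by rw [mul_assoc, fQ]
      _ = _ := by rw [vf, add_mul, mul_assoc]
  have vP : v * P = α * P + D' * (Q * P) := by
    calc v * P = (v * e) * P := by rw [mul_assoc, eP]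
      _ = _ := by rw [ve, add_mul, mul_assoc]
  have vδ : v * δ = D * (P * δ) + δ * δ := by
    calc v * δ = (v * f) * δ := by rw [mul_assoc, fδ]
      _ = _ := by rw [vf, add_mul, mul_assoc]
  have uve : u * v * e = (α * α + D' * (P * Q)) + (Q * α + D' * (δ * Q)) := by
    calc u * v * e = u * (v * e) := mul_assoc _ _ _
      _ = u * α + (u * D') * Q := by rw [ve, mul_add, mul_assoc]
      _ = (α * α + Q * α) + D' * (P * Q + δ * Q) := by rw [uα, ← Du', mul_assoc, uQ]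
      _ = _ := by rw [mul_add]; abel
  have vue : v * u * e = (α * α + D * (P * Q)) + (D' * (Q * α) + δ * Q) := by
    calc v * u * e = v * (u * e) := mul_assoc _ _ _
      _ = _ := by rw [ue, mul_add, vα, vQ]; abel
  have uvf : u * v * f = (D * (α * P) + P * δ) + (D * (Q * P) + δ * δ) := by
    calc u * v * f = u * (v * f) := mul_assoc _ _ _
      _ = (u * D) * P + u * δ := by rw [vf, mul_add, mul_assoc]
      _ = D * (α * P + Q * P) + (P * δ + δ * δ) := by rw [← Du, mul_assoc, uP, uδ]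
      _ = _ := by rw [mul_add]; abel
  have vuf : v * u * f = (α * P + D * (P * δ)) + (D' * (Q * P) + δ * δ) := by
    calc v * u * f = v * (u * f) := mul_assoc _ _ _
      _ = _ := by rw [uf, mul_add, vP, vδ]; abel
  have hcomm : u * v = v * u := comm
  rw [hcomm, vue] at uve
  rw [hcomm, vuf] at uvf
  -- projections
  have pe : ∀ {x y x' y' : R}, e * x = x → e * y = 0 → e * x' = x' → e * y' = 0 → x + y = x' + y' → x = x' := by
    intro x y x' y' h1 h2 h3 h4 h
    have := congrArg (fun t => e * t) h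
    simpa [mul_add, h1, h2, h3, h4] using this
  have pf : ∀ {x y x' y' : R}, f * x = 0 → f * y = y → f * x' = 0 → f * y' = y' → x + y = x' + y' → y = y' := by
    intro x y x' y' h1 h2 h3 h4 h
    have := congrArg (fun t => f * t) h
    simpa [mul_add, h1, h2, h3, h4] using this
  have E1 : ∀ x, e * x = x → e * (D * x) = D * x := by
    intro x hx; rw [← mul_assoc, ← De, mul_assoc, hx]
  have E1' : ∀ x, e * x = x → e * (D' * x) = D' * x := by
    intro x hx; rw [← mul_assoc, ← De', mul_assoc, hx]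
  have E0 : ∀ x, e * x = 0 → e * (D * x) = 0 := by
    intro x hx; rw [← mul_assoc, ← De, mul_assoc, hx, mul_zero]
  have E0' : ∀ x, e * x = 0 → e * (D' * x) = 0 := by
    intro x hx; rw [← mul_assoc, ← De', mul_assoc, hx, mul_zero]
  have F1 : ∀ x, f * x = x → f * (D * x) = D * x := by
    intro x hx; rw [← mul_assoc, ← Df, mul_assoc, hx]
  have F1' : ∀ x, f * x = x → f * (D' * x) = D' * x := by
    intro x hx; rw [← mul_assoc, ← Df', mul_assoc, hx]
  have F0 : ∀ x, f * x = 0 → f * (D * x) = 0 := by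
    intro x hx; rw [← mul_assoc, ← Df, mul_assoc, hx, mul_zero]
  have F0' : ∀ x, f * x = 0 → f * (D' * x) = 0 := by
    intro x hx; rw [← mul_assoc, ← Df', mul_assoc, hx, mul_zero]
  have mule : ∀ {x : R} (y : R), e * x = x → e * (x * y) = x * y := by
    intro x y hx; rw [← mul_assoc, hx]
  have mule0 : ∀ {x : R} (y : R), e * x = 0 → e * (x * y) = 0 := by
    intro x y hx; rw [← mul_assoc, hx, zero_mul]
  have mulf : ∀ {x : R} (y : R), f * x = x → f * (x * y) = x * y := by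
    intro x y hx; rw [← mul_assoc, hx]
  have mulf0 : ∀ {x : R} (y : R), f * x = 0 → f * (x * y) = 0 := by
    intro x y hx; rw [← mul_assoc, hx, zero_mul]
  have adde : ∀ {x y : R}, e * x = x → e * y = y → e * (x + y) = x + y := by
    intro x y hx hy; rw [mul_add, hx, hy]
  have adde0 : ∀ {x y : R}, e * x = 0 → e * y = 0 → e * (x + y) = 0 := by
    intro x y hx hy; rw [mul_add, hx, hy, add_zero]
  have addf : ∀ {x y : R}, f * x = x → f * y = y → f * (x + y) = x + y := by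
    intro x y hx hy; rw [mul_add, hx, hy]
  have addf0 : ∀ {x y : R}, f * x = 0 → f * y = 0 → f * (x + y) = 0 := by
    intro x y hx hy; rw [mul_add, hx, hy, add_zero]
  -- the four equations
  have q1 : α * α + D * (P * Q) = α * α + D' * (P * Q) :=
    pe (adde (mule _ eα) (E1 _ (mule _ eP))) (adde0 (E0' _ (mule0 _ eQ)) (mule0 _ eδ))
      (adde (mule _ eα) (E1' _ (mule _ eP))) (adde0 (mule0 _ eQ) (E0' _ (mule0 _ eδ))) uve
  have q2 : D' * (Q * α) + δ * Q = Q * α + D' * (δ * Q) :=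
    pf (addf0 (mulf0 _ fα) (F0 _ (mulf0 _ fP))) (addf (F1' _ (mulf _ fQ)) (mulf _ fδ))
      (addf0 (mulf0 _ fα) (F0' _ (mulf0 _ fP))) (addf (mulf _ fQ) (F1' _ (mulf _ fδ))) uve
  have q3 : α * P + D * (P * δ) = D * (α * P) + P * δ :=
    pe (adde (mule _ eα) (E1 _ (mule _ eP))) (adde0 (E0' _ (mule0 _ eQ)) (mule0 _ eδ))
      (adde (E1 _ (mule _ eα)) (mule _ eP)) (adde0 (E0 _ (mule0 _ eQ)) (mule0 _ eδ)) uvf
  have q4 : D' * (Q * P) + δ * δ = D * (Q * P) + δ * δ :=
    pf (addf0 (mulf0 _ fα) (F0 _ (mulf0 _ fP))) (addf (F1' _ (mulf _ fQ)) (mulf _ fδ))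
      (addf0 (F0 _ (mulf0 _ fα)) (mulf0 _ fP)) (addf (F1 _ (mulf _ fQ)) (mulf _ fδ)) uvf
  have PQ : P * Q = 0 := by
    refine ce2 _ (mule _ eP) ?_
    rw [add_left_cancel q1, ← mul_assoc, DD, one_mul]
  have QP : Q * P = 0 := by
    refine cf2 _ (mulf _ fQ) ?_
    rw [← add_right_cancel q4, ← mul_assoc, DD, one_mul]
  have Qα : Q * α = δ * Q := by
    refine eq_of_add h2 (cf _ (addf (mulf _ fQ) (mulf _ fδ)) ?_)
    have h3 : D * (D' * (Q * α) + δ * Q) = D * (Q * α + D' * (δ * Q)) := by rw [q2]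
    rw [mul_add, mul_add, ← mul_assoc D D', ← mul_assoc D D', DD, one_mul, one_mul] at h3
    -- Qα + D(δQ) = D(Qα) + δQ
    rw [mul_add]
    have h4 := h2 (D * (δ * Q))
    have h5 := h2 (δ * Q)
    calc D * (Q * α) + D * (δ * Q) = D * (Q * α) + δ * Q + (δ * Q + D * (δ * Q)) := by
          rw [add_assoc (D * (Q * α)), ← add_assoc (δ * Q), h5, zero_add]
      _ = Q * α + D * (δ * Q) + (δ * Q + D * (δ * Q)) := by rw [h3]
      _ = Q * α + δ * Q + (D * (δ * Q) + D * (δ * Q)) := by abel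
      _ = Q * α + δ * Q := by rw [h4, add_zero]
  have αP : α * P = P * δ := by
    refine eq_of_add h2 (ce _ (adde (mule _ eα) (mule _ eP)) ?_)
    rw [mul_add]
    have h4 := h2 (D * (P * δ))
    have h5 := h2 (P * δ)
    calc D * (α * P) + D * (P * δ) = D * (α * P) + P * δ + (P * δ + D * (P * δ)) := by
          rw [add_assoc (D * (α * P)), ← add_assoc (P * δ), h5, zero_add]
      _ = α * P + D * (P * δ) + (P * δ + D * (P * δ)) := by rw [q3]
      _ = α * P + P * δ + (D * (P * δ) + D * (P * δ)) := by abel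
      _ = α * P + P * δ := by rw [h4, add_zero]
  have αα : α * α = e := by
    have h3 : (α * α + P * Q) + (Q * α + δ * Q) = e + 0 := by
      calc (α * α + P * Q) + (Q * α + δ * Q) = u * α + u * Q := by rw [uα, uQ]; abel
        _ = u * (u * e) := by rw [ue, mul_add]
        _ = e + 0 := by rw [← mul_assoc, uu, one_mul, add_zero]
    have h4 := pe (adde (mule _ eα) (mule _ eP)) (adde0 (mule0 _ eQ) (mule0 _ eδ)) ee (mul_zero e) h3
    rw [PQ, add_zero] at h4
    exact h4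
  have δδ : δ * δ = f := by
    have h3 : (α * P + P * δ) + (Q * P + δ * δ) = 0 + f := by
      calc (α * P + P * δ) + (Q * P + δ * δ) = u * P + u * δ := by rw [uP, uδ]; abel
        _ = u * (u * f) := by rw [uf, mul_add]
        _ = 0 + f := by rw [← mul_assoc, uu, one_mul, zero_add]
    have h4 := pf (addf0 (mulf0 _ fα) (mulf0 _ fP)) (addf (mulf _ fQ) (mulf _ fδ)) (mul_zero f) ff h3
    rw [QP, zero_add] at h4
    exact h4
  -- the new element
  have b₀v : b₀ = u * v := hb₀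
  obtain ⟨Q₁, hQ₁⟩ : ∃ Q₁, Q₁ = (1 + D') * (Q * α) := ⟨_, rfl⟩
  obtain ⟨P₁, hP₁⟩ : ∃ P₁, P₁ = (1 + D) * (α * P) := ⟨_, rfl⟩
  have b₀e : b₀ * e = e + Q₁ := by
    rw [b₀v, hcomm, vue, PQ, mul_zero, add_zero, αα, ← Qα, hQ₁, add_mul, one_mul]
    abel
  have b₀f : b₀ * f = f + P₁ := by
    rw [b₀v, hcomm, vuf, QP, mul_zero, zero_add, δδ, ← αP, hP₁, add_mul, one_mul]
    abel
  have fQ₁ : f * Q₁ = Q₁ := by
    rw [hQ₁, add_mul, one_mul]
    exact addf (mulf _ fQ) (F1' _ (mulf _ fQ))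
  have eP₁ : e * P₁ = P₁ := by
    rw [hP₁, add_mul, one_mul]
    exact adde (mule _ eα) (E1 _ (mule _ eα))
  have PQ₁ : P₁ * Q₁ = 0 := by
    calc P₁ * Q₁ = (1 + D) * α * (P * (1 + D')) * (Q * α) := by rw [hP₁, hQ₁]; noncomm_ring
      _ = (1 + D) * α * ((1 + D') * P) * (Q * α) := by
          rw [show P * (1 + D') = (1 + D') * P by rw [mul_add, add_mul, mul_one, one_mul, DP']]
      _ = (1 + D) * α * (1 + D') * (P * Q) * α := by noncomm_ring
      _ = 0 := by rw [PQ, mul_zero, zero_mul]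
  have QP₁ : Q₁ * P₁ = 0 := by
    calc Q₁ * P₁ = (1 + D') * Q * (α * (1 + D)) * (α * P) := by rw [hP₁, hQ₁]; noncomm_ring
      _ = (1 + D') * Q * ((1 + D) * α) * (α * P) := by
          rw [show α * (1 + D) = (1 + D) * α by rw [mul_add, add_mul, mul_one, one_mul, Dα]]
      _ = (1 + D') * (Q * (1 + D)) * ((α * α) * P) := by noncomm_ring
      _ = (1 + D') * ((1 + D) * Q) * P := by
          rw [αα, eP, show Q * (1 + D) = (1 + D) * Q by rw [mul_add, add_mul, mul_one, one_mul, DQ]]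
      _ = (1 + D') * (1 + D) * (Q * P) := by noncomm_ring
      _ = 0 := by rw [QP, mul_zero]
  have Dv : D * v = v * D := by
    calc D * v = (D * H) * u * H' := by rw [hv]; noncomm_ring
      _ = H * (D * u) * H' := by rw [DH]; noncomm_ring
      _ = H * u * (D * H') := by rw [Du]; noncomm_ring
      _ = v * D := by rw [DH', hv]; noncomm_ring
  have Db₀ : D * b₀ = b₀ * D := by
    calc D * b₀ = (D * u) * v := by rw [b₀v]; noncomm_ring
      _ = u * (D * v) := by rw [Du]; noncomm_ring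
      _ = b₀ * D := by rw [Dv, b₀v]; noncomm_ring
  have Db₀' := D'_comm Db₀
  have HQ₁ : H * Q₁ = Q₁ := by
    calc H * Q₁ = H * (f * Q₁) := by rw [fQ₁]
      _ = Q₁ := by rw [← mul_assoc, Hf, fQ₁]
  have HP₁ : H * P₁ = D * P₁ := by
    calc H * P₁ = H * (e * P₁) := by rw [eP₁]
      _ = D * (e * P₁) := by rw [← mul_assoc, He, mul_assoc]
      _ = D * P₁ := by rw [eP₁]
  have b₁e : b₁ * e = e + D' * Q₁ := by
    calc b₁ * e = H * b₀ * (H' * e) := by rw [hb₁, mul_assoc]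
      _ = H * (b₀ * D') * e := by rw [H'e]; noncomm_ring
      _ = (H * D') * (b₀ * e) := by rw [← Db₀']; noncomm_ring
      _ = D' * (H * e + H * Q₁) := by rw [← DH1, b₀e]; noncomm_ring
      _ = (D' * D) * e + D' * Q₁ := by rw [He, HQ₁]; noncomm_ring
      _ = e + D' * Q₁ := by rw [DD', one_mul]
  have b₁f : b₁ * f = f + D * P₁ := by
    calc b₁ * f = H * b₀ * (H' * f) := by rw [hb₁, mul_assoc]
      _ = H * (b₀ * f) := by rw [H'f, mul_assoc]
      _ = f + D * P₁ := by rw [b₀f, mul_add, Hf, HP₁]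
  have b₀Q₁ : b₀ * Q₁ = Q₁ := by
    calc b₀ * Q₁ = (b₀ * f) * Q₁ := by rw [mul_assoc, fQ₁]
      _ = Q₁ := by rw [b₀f, add_mul, fQ₁, PQ₁, add_zero]
  have b₀P₁ : b₀ * P₁ = P₁ := by
    calc b₀ * P₁ = (b₀ * e) * P₁ := by rw [mul_assoc, eP₁]
      _ = P₁ := by rw [b₀e, add_mul, eP₁, QP₁, add_zero]
  have N₀e : (1 + b₀) * e = Q₁ := by
    rw [add_mul, one_mul, b₀e, ← add_assoc, h2, zero_add]
  have N₀f : (1 + b₀) * f = P₁ := by
    rw [add_mul, one_mul, b₀f, ← add_assoc, h2, zero_add]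
  have ug' : u * (1 + (e + f)) = (1 + (e + f)) * u := by
    rw [mul_add, add_mul, mul_one, one_mul, ug]
  have vg : v * (1 + (e + f)) = u * (1 + (e + f)) := by
    calc v * (1 + (e + f)) = H * u * (H' * (1 + (e + f))) := by rw [hv, mul_assoc]
      _ = H * (u * (1 + (e + f))) := by rw [H'g, mul_assoc]
      _ = (H * (1 + (e + f))) * u := by rw [ug', mul_assoc]
      _ = u * (1 + (e + f)) := by rw [Hg, ug']
  have b₀g : b₀ * (1 + (e + f)) = 1 + (e + f) := by
    rw [b₀v, mul_assoc, vg, ← mul_assoc, uu, one_mul]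
  have b₁g : b₁ * (1 + (e + f)) = 1 + (e + f) := by
    calc b₁ * (1 + (e + f)) = H * b₀ * (H' * (1 + (e + f))) := by rw [hb₁, mul_assoc]
      _ = 1 + (e + f) := by rw [H'g, mul_assoc, b₀g, Hg]
  refine ⟨⟨?_, ?_⟩, ⟨?_, ?_⟩, ⟨?_, ?_, ?_⟩, Db₀⟩
  · rw [N₀e, add_mul, one_mul, b₁e, ← add_assoc, h2, zero_add]
  · rw [N₀f, add_mul, one_mul, b₁f, ← add_assoc, h2, zero_add]
  · rw [N₀e, add_mul, one_mul, mul_assoc, b₁e, mul_add, b₀e, ← mul_assoc b₀ D', ← Db₀', mul_assoc D', b₀Q₁]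
    rw [add_mul, one_mul, ← add_assoc, ← add_assoc, h2, zero_add]
  · rw [N₀f, add_mul, one_mul, mul_assoc, b₁f, mul_add, b₀f, ← mul_assoc b₀ D, ← Db₀, mul_assoc D, b₀P₁]
    rw [add_mul, one_mul, ← add_assoc, ← add_assoc, h2, zero_add]
  · rw [add_mul, one_mul, b₀g, h2]
  · rw [add_mul, one_mul, b₁g, h2]
  · rw [add_mul, one_mul, mul_assoc, b₁g, b₀g, h2]

end Cfsg.Agent.Omega.ThmC.Four

end

section


/-!
# THEOREM C, case `q ≥ 4` (bb OMEGA 16418, helper522): the coprime lemma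

Commuting elements `h l` of order dividing the odd prime `p` normalise the `2`-group `W ≠ 1` and have no common fixed
point on `W`: for one `a`, all the `h l * (h a ^ n l)⁻¹` have a common fixed point `w ≠ 1` in `W`.
-/

set_option autoImplicit false

namespace Cfsg.Agent.Omega.ThmC.Four

open Subgroup

/-- in an elementary abelian `p`-group `H`, an element outside of a hyperplane `B` generates `H` modulo `B` -/
theorem exists_pow_mem {N : Type*} [Group N] [Finite N] {p : ℕ} (hp : p.Prime) {H B : Subgroup N}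
    (hc : ∀ x ∈ H, ∀ y ∈ H, x * y = y * x) (hi : B.relIndex H = p) {x y : N} (hx : x ∈ H)
    (hy : y ∈ H) (hyB : y ∉ B) : ∃ n : ℕ, x * (y ^ n)⁻¹ ∈ B := by
  have : Fact p.Prime := ⟨hp⟩
  have hn : (B.subgroupOf H).Normal := ⟨fun b hb g => by
    rw [mem_subgroupOf] at hb ⊢
    have h1 : ((g * b * g⁻¹ : H) : N) = b := by
      rw [coe_mul, coe_mul, coe_inv, hc _ g.2 _ b.2, mul_inv_cancel_right]
    rw [h1]; exact hb⟩
  have hcard : Nat.card (H ⧸ B.subgroupOf H) = p := by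
    rw [← Subgroup.index_eq_card]
    exact hi
  have hy1 : (QuotientGroup.mk (⟨y, hy⟩ : H) : H ⧸ B.subgroupOf H) ≠ 1 := by
    rw [Ne, QuotientGroup.eq_one_iff, mem_subgroupOf]
    exact hyB
  obtain ⟨n, hn⟩ := mem_powers_of_prime_card (g' := (QuotientGroup.mk (⟨x, hx⟩ : H) : H ⧸ B.subgroupOf H))
    hcard hy1
  refine ⟨n, ?_⟩
  have h2 : (QuotientGroup.mk ((⟨x, hx⟩ : H) * ((⟨y, hy⟩ : H) ^ n)⁻¹) : H ⧸ B.subgroupOf H) = 1 := by
    rw [QuotientGroup.mk_mul, QuotientGroup.mk_inv, QuotientGroup.mk_pow]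
    rw [← hn]
    exact mul_inv_cancel _
  rw [QuotientGroup.eq_one_iff, mem_subgroupOf] at h2
  exact h2

theorem exists_hyperplane {N : Type*} [Group N] [Finite N] {p : ℕ} (hp : p.Prime) (hp2 : p ≠ 2) {k : ℕ}
    {h : Fin k → N} (hc : ∀ l m, h l * h m = h m * h l) (hpow : ∀ l, h l ^ p = 1) {W : Subgroup N}
    (hW : IsPGroup 2 W) (hne : W ≠ ⊥) (hn : ∀ l, h l ∈ normalizer (W : Set N))
    (hfix : ∀ w ∈ W, (∀ l, w * h l = h l * w) → w = 1) :
    ∃ (a : Fin k) (n : Fin k → ℕ), n a = 1 ∧ ∃ w ∈ W, w ≠ 1 ∧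
      ∀ l, w * (h l * (h a ^ n l)⁻¹) = (h l * (h a ^ n l)⁻¹) * w := by
  classical
  have : Fact p.Prime := ⟨hp⟩
  set H : Subgroup N := closure (Set.range h) with hH
  have hhH : ∀ l, h l ∈ H := fun l => subset_closure ⟨l, rfl⟩
  have hcen : H ≤ centralizer (Set.range h) := by
    rw [hH, closure_le]
    rintro _ ⟨l, rfl⟩
    rw [SetLike.mem_coe, mem_centralizer_iff]
    rintro _ ⟨m, rfl⟩
    exact hc m l
  have hcen2 : H ≤ centralizer (H : Set N) := by
    conv_lhs => rw [hH]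
    rw [closure_le]
    rintro _ ⟨l, rfl⟩
    rw [SetLike.mem_coe, mem_centralizer_iff]
    intro x hx
    exact (mem_centralizer_iff.1 (hcen hx) (h l) ⟨l, rfl⟩).symm
  have hcomm : ∀ x ∈ H, ∀ y ∈ H, x * y = y * x := fun x hx y hy =>
    mem_centralizer_iff.1 (hcen2 hy) x hx
  have hHp : ∀ x ∈ H, x ^ p = 1 := by
    intro x hx
    induction hx using closure_induction with
    | mem x hx => obtain ⟨l, rfl⟩ := hx; exact hpow l
    | one => exact one_pow p
    | mul x y hx hy h1 h2 => rw [(show Commute x y from hcomm x hx y hy).mul_pow, h1, h2, one_mul]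
    | inv x hx h1 => rw [inv_pow, h1, inv_one]
  have hel : Cfsg.IsElementaryAbelian p H :=
    ⟨⟨⟨fun a b => Subtype.ext (hcomm a a.2 b b.2)⟩⟩, hHp⟩
  have hHn : H ≤ normalizer (W : Set N) := by
    rw [hH, closure_le]
    rintro _ ⟨l, rfl⟩
    exact hn l
  have hH1 : H ≠ ⊥ := by
    intro h1
    apply hne
    rw [eq_bot_iff]
    intro w hw
    rw [mem_bot]
    refine hfix w hw fun l => ?_
    have h2 : h l = 1 := by
      have := hhH l
      rwa [h1, mem_bot] at this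
    rw [h2, one_mul, mul_one]
  have hpW : ¬ p ∣ Nat.card W := by
    obtain ⟨n, hn⟩ := IsPGroup.iff_card.1 hW
    rw [hn]
    intro h1
    exact hp2 ((Nat.prime_dvd_prime_iff_eq hp Nat.prime_two).1 (hp.dvd_of_dvd_pow h1))
  have hgen := Cfsg.Agent.Lib.CoprimeHyperplane.iSup_centralizer_hyperplane hel hH1 hpW hHn
  obtain ⟨B, hB⟩ : ∃ B : {B : Subgroup N // B ≤ H ∧ B.relIndex H = p},
      W ⊓ centralizer ((B : Subgroup N) : Set N) ≠ ⊥ := by
    by_contra h1
    push Not at h1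
    apply hne
    rw [← hgen, iSup_eq_bot]
    exact h1
  obtain ⟨B, hBH, hBi⟩ := B
  obtain ⟨w, hw, hw1⟩ := (Subgroup.bot_or_exists_ne_one _).resolve_left hB
  obtain ⟨hwW, hwB⟩ := mem_inf.1 hw
  obtain ⟨a, ha⟩ : ∃ a, h a ∉ B := by
    by_contra h1
    push Not at h1
    exact hw1 (hfix w hwW fun l => (mem_centralizer_iff.1 hwB (h l) (h1 l)).symm)
  have hex : ∀ l, ∃ n : ℕ, (l = a → n = 1) ∧ h l * (h a ^ n)⁻¹ ∈ B := by
    intro l
    by_cases hla : l = a
    · refine ⟨1, fun _ => rfl, ?_⟩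
      rw [hla, pow_one, mul_inv_cancel]
      exact B.one_mem
    · obtain ⟨n, hn⟩ := exists_pow_mem hp hcomm hBi (hhH l) (hhH a) ha
      exact ⟨n, fun h => absurd h hla, hn⟩
  choose n hn1 hn2 using hex
  exact ⟨a, n, hn1 a rfl, w, hwW, hw1, fun l => (mem_centralizer_iff.1 hwB _ (hn2 l)).symm⟩

end Cfsg.Agent.Omega.ThmC.Four

end

end

-- merged: Cfsg.Agent.Mrg.Omega.ThmC.FourMain
section

section


/-!
# THEOREM C, case `q ≥ 4`, (3): the theorem in `N = N_G(E) / C_G(E)`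

`Abs.main` : a 2-subgroup of `N` normalised by the `h l` and by the elements of `S` which normalise every `⟨h l⟩` is
trivial.
-/

set_option autoImplicit false
set_option linter.unusedSectionVars false
set_option linter.unusedVariables false

namespace Cfsg.Agent.Omega.ThmC.Four

open Subgroup Cfsg

universe u

namespace Abs

variable {N A : Type u} [Group N] [Finite N] [AddCommGroup A] [Finite A] {ρ : N →* AddMonoid.End A}
  {S : Sylow 2 N} {k : ℕ} {h : Fin k → N} {Z : Fin k → AddSubgroup A} {p : ℕ}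

/-! ### (3)(a) -/

/-- The elements of `N` which commute with all `eps l`. -/
def stabC (ρ : N →* AddMonoid.End A) (h : Fin k → N) : Subgroup N where
  carrier := {n | ∀ l, ρ n * eps ρ h l = eps ρ h l * ρ n}
  one_mem' := fun l => by rw [map_one, one_mul, mul_one]
  mul_mem' := by
    intro a b ha hb l
    rw [map_mul, mul_assoc, hb l, ← mul_assoc, ha l, mul_assoc]
  inv_mem' := by
    intro a ha l
    have h1 : ρ a⁻¹ * ρ a = 1 := by rw [← map_mul, inv_mul_cancel, map_one]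
    have h2 : ρ a * ρ a⁻¹ = 1 := by rw [← map_mul, mul_inv_cancel, map_one]
    calc ρ a⁻¹ * eps ρ h l = ρ a⁻¹ * eps ρ h l * (ρ a * ρ a⁻¹) := by rw [h2, mul_one]
      _ = ρ a⁻¹ * (eps ρ h l * ρ a) * ρ a⁻¹ := by noncomm_ring
      _ = ρ a⁻¹ * (ρ a * eps ρ h l) * ρ a⁻¹ := by rw [ha l]
      _ = (ρ a⁻¹ * ρ a) * eps ρ h l * ρ a⁻¹ := by noncomm_ring
      _ = eps ρ h l * ρ a⁻¹ := by rw [h1, one_mul]

theorem mem_stabC {n : N} : n ∈ stabC ρ h ↔ ∀ l, ρ n * eps ρ h l = eps ρ h l * ρ n := Iff.rfl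

theorem perm_eq (d : Abs ρ S h Z p) {s : N} {σ : Equiv.Perm (Fin k)} (hs : Perm h s σ) {l : Fin k}
    (hc : ρ s * eps ρ h l = eps ρ h l * ρ s) : σ l = l := by
  by_contra hne
  have h2 : ρ s * ρ s⁻¹ = 1 := by rw [← map_mul, mul_inv_cancel, map_one]
  have h1 : eps ρ h (σ l) = eps ρ h l := by
    calc eps ρ h (σ l) = eps ρ h (σ l) * ρ s * ρ s⁻¹ := by rw [mul_assoc, h2, mul_one]
      _ = eps ρ h l * ρ s * ρ s⁻¹ := by rw [← conj_eps hs, hc]
      _ = eps ρ h l := by rw [mul_assoc, h2, mul_one]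
  obtain ⟨a, ha⟩ := d.eps_ne l
  apply ha
  have h3 := d.eps_orth hne
  rw [h1, d.eps_idem] at h3
  rw [h3]
  rfl

theorem S_le_normalizer (d : Abs ρ S h Z p) : (S : Subgroup N) ≤ normalizer (stabC ρ h : Set N) := by
  have key : ∀ s ∈ (S : Subgroup N), ∀ n ∈ stabC ρ h, s * n * s⁻¹ ∈ stabC ρ h := by
    intro s hs n hn l
    obtain ⟨σ, hσ⟩ := d.perm s hs
    obtain ⟨τ, hτ⟩ := d.perm s⁻¹ (inv_mem hs)
    have h1 : σ (τ l) = l := by
      have := d.perm_eq (Perm.mul hσ hτ) (l := l) (by rw [mul_inv_cancel, map_one, one_mul, mul_one])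
      exact this
    have h2 : ρ s⁻¹ * eps ρ h l = eps ρ h (τ l) * ρ s⁻¹ := conj_eps hτ l
    have h3 : ρ s * eps ρ h (τ l) = eps ρ h l * ρ s := by rw [conj_eps hσ, h1]
    calc ρ (s * n * s⁻¹) * eps ρ h l = ρ s * ρ n * (ρ s⁻¹ * eps ρ h l) := by
          rw [map_mul, map_mul]; noncomm_ring
      _ = ρ s * (ρ n * eps ρ h (τ l)) * ρ s⁻¹ := by rw [h2]; noncomm_ring
      _ = (ρ s * eps ρ h (τ l)) * ρ n * ρ s⁻¹ := by rw [hn]; noncomm_ring
      _ = eps ρ h l * ρ (s * n * s⁻¹) := by rw [h3, map_mul, map_mul]; noncomm_ring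
  intro s hs
  rw [mem_normalizer_iff]
  intro n
  refine ⟨key s hs n, fun hn => ?_⟩
  have := key s⁻¹ (inv_mem hs) _ hn
  simpa [mul_assoc] using this

/-- (3)(a) -/
theorem mem_S (d : Abs ρ S h Z p) {W : Subgroup N} (hW : IsPGroup 2 W)
    (hSW : ∀ s ∈ (S : Subgroup N), (∀ l, ∃ r : ℕ, s * h l * s⁻¹ = h l ^ r) → s ∈ normalizer (W : Set N))
    {w : N} (hw : w ∈ W) (hc : w ∈ stabC ρ h) : w ∈ (S : Subgroup N) := by
  set T : Subgroup N := (S : Subgroup N) ⊓ stabC ρ h with hT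
  have hTN : T ≤ normalizer ((W ⊓ stabC ρ h : Subgroup N) : Set N) := by
    rintro s ⟨hs, hs0⟩
    have h1 : s ∈ normalizer (W : Set N) := by
      refine hSW s hs fun l => ?_
      obtain ⟨σ, hσ⟩ := d.perm s hs
      obtain ⟨r, hr⟩ := hσ l
      exact ⟨r, by rw [hr, d.perm_eq hσ (hs0 l)]⟩
    have h2 := d.S_le_normalizer hs
    rw [mem_normalizer_iff] at h1 h2 ⊢
    intro n
    exact ⟨fun hn => ⟨(h1 n).1 hn.1, (h2 n).1 hn.2⟩, fun hn => ⟨(h1 n).2 hn.1, (h2 n).2 hn.2⟩⟩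
  have hT2 : IsPGroup 2 T := S.isPGroup'.to_le inf_le_left
  have hW2 : IsPGroup 2 (W ⊓ stabC ρ h : Subgroup N) := hW.to_le inf_le_left
  have hsup : IsPGroup 2 (T ⊔ (W ⊓ stabC ρ h) : Subgroup N) := hT2.to_sup_of_normal_right' hW2 hTN
  have hle : T ⊔ (W ⊓ stabC ρ h) ≤ stabC ρ h := sup_le inf_le_right inf_le_right
  obtain ⟨x, hx, hxS⟩ := exists_conj_le (S := S) (M := normalizer (stabC ρ h : Set N)) d.S_le_normalizer hsup
    (hle.trans le_normalizer)
  have h3 : (T ⊔ (W ⊓ stabC ρ h)).map (MulAut.conj x).toMonoidHom ≤ T := by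
    rintro _ ⟨t, ht, rfl⟩
    exact ⟨hxS t ht, (mem_normalizer_iff.1 hx t).1 (hle ht)⟩
  have h4 : Nat.card ↥(T ⊔ (W ⊓ stabC ρ h)) ≤ Nat.card T := by
    rw [← card_map_conj (T ⊔ (W ⊓ stabC ρ h)) x]
    exact Subgroup.card_le_of_le h3
  have h5 : T = T ⊔ (W ⊓ stabC ρ h) := eq_of_le_of_card_ge le_sup_left h4
  have h6 : w ∈ T := by
    rw [h5]
    exact mem_sup_right ⟨hw, hc⟩
  exact h6.1

/-- An element of `W` which commutes with all `eps l` is trivial. -/
theorem eq_one_of_eps (d : Abs ρ S h Z p) {W : Subgroup N} (hW : IsPGroup 2 W)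
    (hh : ∀ l, h l ∈ normalizer (W : Set N))
    (hSW : ∀ s ∈ (S : Subgroup N), (∀ l, ∃ r : ℕ, s * h l * s⁻¹ = h l ^ r) → s ∈ normalizer (W : Set N))
    {w : N} (hw : w ∈ W) (hc : ∀ l, ρ w * eps ρ h l = eps ρ h l * ρ w) : w = 1 := by
  have hwS : w ∈ (S : Subgroup N) := d.mem_S hW hSW hw hc
  obtain ⟨σ, hσ⟩ := d.perm w hwS
  refine d.field w hwS fun l => ?_
  obtain ⟨r, hr⟩ := hσ l
  rw [d.perm_eq hσ (hc l)] at hr
  have h1 : w * (h l * w⁻¹ * (h l)⁻¹) ∈ W :=
    mul_mem hw ((mem_normalizer_iff.1 (hh l) w⁻¹).1 (inv_mem hw))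
  have h2 : w * (h l * w⁻¹ * (h l)⁻¹) = h l ^ r * (h l)⁻¹ := by rw [← hr]; group
  have h3 : (w * (h l * w⁻¹ * (h l)⁻¹)) ^ p = 1 := by
    rw [h2]
    exact d.DD_pow _ (mul_mem (pow_mem (h_mem_DD h l) r) (inv_mem (h_mem_DD h l)))
  have h4 : w * (h l * w⁻¹ * (h l)⁻¹) = 1 := by
    obtain ⟨n, hn⟩ := hW ⟨_, h1⟩
    have h5 : (w * (h l * w⁻¹ * (h l)⁻¹)) ^ 2 ^ n = 1 := congrArg Subtype.val hn
    have h6 : orderOf (w * (h l * w⁻¹ * (h l)⁻¹)) ∣ Nat.gcd p (2 ^ n) :=
      Nat.dvd_gcd (orderOf_dvd_of_pow_eq_one h3) (orderOf_dvd_of_pow_eq_one h5)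
    have h7 : Nat.Coprime p (2 ^ n) :=
      Nat.Coprime.pow_right n ((Nat.coprime_primes d.prime Nat.prime_two).2 d.odd)
    rw [h7.gcd_eq_one] at h6
    exact orderOf_eq_one_iff.1 (Nat.dvd_one.1 h6)
  calc w * h l = w * (h l * w⁻¹ * (h l)⁻¹) * h l * w := by group
    _ = h l * w := by rw [h4, one_mul]

/-! ### (3)(b) -/

theorem fix_rest (d : Abs ρ S h Z p) {l a : Fin k} (hla : l ≠ a) {T : AddMonoid.End A}
    (hT : ∀ m, m ≠ l → m ≠ a → T * eps ρ h m = eps ρ h m) :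
    T * (1 + (eps ρ h l + eps ρ h a)) = 1 + (eps ρ h l + eps ρ h a) := by
  classical
  have h1 : (1 : AddMonoid.End A) + (eps ρ h l + eps ρ h a) = ∑ m ∈ (Finset.univ.erase l).erase a, eps ρ h m := by
    have h2 : (1 : AddMonoid.End A) = eps ρ h l + (eps ρ h a + ∑ m ∈ (Finset.univ.erase l).erase a, eps ρ h m) := by
      rw [Finset.add_sum_erase _ _ (Finset.mem_erase.2 ⟨hla.symm, Finset.mem_univ a⟩),
        Finset.add_sum_erase _ _ (Finset.mem_univ l), d.sum_eps]
    calc (1 : AddMonoid.End A) + (eps ρ h l + eps ρ h a)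
        = (eps ρ h l + eps ρ h l) + (eps ρ h a + eps ρ h a) +
          ∑ m ∈ (Finset.univ.erase l).erase a, eps ρ h m := by
          conv_lhs => rw [h2]
          abel
      _ = _ := by rw [d.add_self', d.add_self', zero_add, zero_add]
  rw [h1, Finset.mul_sum]
  refine Finset.sum_congr rfl fun m hm => ?_
  rw [Finset.mem_erase, Finset.mem_erase] at hm
  exact hT m hm.2.1 hm.1

theorem h_eps_apply (d : Abs ρ S h Z p) {l m : Fin k} (hml : m ≠ l) {c : A} (hc : eps ρ h l c = c) :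
    ρ (h m) c = c := by
  have := congrArg (fun T : AddMonoid.End A => T c) (d.h_mul_eps hml)
  change ρ (h m) (eps ρ h l c) = eps ρ h l c at this
  rwa [hc] at this

theorem mem_zpowers_pow (d : Abs ρ S h Z p) {a : Fin k} {n : ℕ} (hn : ¬ p ∣ n) : h a ∈ zpowers (h a ^ n) := by
  have hcop : Nat.Coprime n p := ((Nat.Prime.coprime_iff_not_dvd d.prime).2 hn).symm
  obtain ⟨m, hm⟩ := exists_pow_eq_self_of_coprime (x := h a) (n := n) (by rw [d.orderOf_h]; exact hcop)
  exact ⟨m, by change (h a ^ n) ^ (m : ℤ) = h a; rw [zpow_natCast, hm]⟩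

theorem pow_eps_apply (d : Abs ρ S h Z p) {l a : Fin k} (hla : a ≠ l) (n : ℕ) {c : A} (hc : eps ρ h l c = c) :
    ρ (h a ^ n) c = c :=
  pow_fix (d.h_eps_apply hla hc) ⟨n, zpow_natCast _ _⟩

theorem inv_apply {x : N} {c : A} (hx : ρ x c = c) : ρ x⁻¹ c = c := pow_fix hx ⟨-1, zpow_neg_one _⟩

theorem inv_apply' {x : N} {c : A} (hx : ρ x⁻¹ c = c) : ρ x c = c := by
  have := inv_apply (ρ := ρ) hx
  rwa [inv_inv] at this

/-- `h l (h a ^ n)⁻¹` is fixed-point-free on `C_l`. -/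
theorem fpf_pair (d : Abs ρ S h Z p) {l a : Fin k} (hla : l ≠ a) {n : ℕ} {c : A}
    (hc : eps ρ h l c = c) (hx : ρ (h l * (h a ^ n)⁻¹) c = c) : c = 0 := by
  refine d.fpf' hc ?_
  rw [rho_mul, inv_apply (d.pow_eps_apply hla.symm n hc)] at hx
  exact hx

/-- `h l (h a ^ n)⁻¹` is fixed-point-free on `C_a`. -/
theorem fpf_pair' (d : Abs ρ S h Z p) {l a : Fin k} (hla : l ≠ a) {n : ℕ} (hn : ¬ p ∣ n) {c : A}
    (hc : eps ρ h a c = c) (hx : ρ (h l * (h a ^ n)⁻¹) c = c) : c = 0 := by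
  have h1 : h l * (h a ^ n)⁻¹ = (h a ^ n)⁻¹ * h l :=
    d.DD_comm _ (h_mem_DD h l) _ (inv_mem (pow_mem (h_mem_DD h a) n))
  rw [h1, rho_mul, d.h_eps_apply hla hc] at hx
  exact d.fpf' hc (pow_fix (inv_apply' hx) (d.mem_zpowers_pow hn))

theorem pair_mem_DD (l a : Fin k) (n : ℕ) : h l * (h a ^ n)⁻¹ ∈ DD h :=
  mul_mem (h_mem_DD h l) (inv_mem (pow_mem (h_mem_DD h a) n))

theorem eps_pair (d : Abs ρ S h Z p) {l a : Fin k} (hla : l ≠ a) {n : ℕ} (hn : ¬ p ∣ n) :
    eps ρ h l + eps ρ h a = 1 + avg ρ (zpowers (h l * (h a ^ n)⁻¹)) := by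
  set x := h l * (h a ^ n)⁻¹ with hx
  have hxD : x ∈ DD h := pair_mem_DD l a n
  have hXD : zpowers x ≤ DD h := zpowers_le.2 hxD
  have hcomm : ∀ m, avg ρ (zpowers x) * eps ρ h m = eps ρ h m * avg ρ (zpowers x) := fun m =>
    (commute_avg ρ fun y hy => (d.commute_DD (hXD hy) m).symm).symm
  have hfix : ∀ c, ρ x (avg ρ (zpowers x) c) = avg ρ (zpowers x) c := fun c =>
    fix_avg_apply ρ (mem_zpowers x) c
  have z1 : avg ρ (zpowers x) * eps ρ h l = 0 := by
    ext c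
    refine d.fpf_pair hla (n := n) ?_ (hfix _)
    rw [hcomm]
    exact d.idem_apply l _
  have z2 : avg ρ (zpowers x) * eps ρ h a = 0 := by
    ext c
    refine d.fpf_pair' hla hn ?_ (hfix _)
    rw [hcomm]
    exact d.idem_apply a _
  have z3 : avg ρ (zpowers x) * (1 + (eps ρ h l + eps ρ h a)) = 1 + (eps ρ h l + eps ρ h a) := by
    refine d.fix_rest hla fun m hml hma => ?_
    refine avg_mul_of_fix ρ d.two (d.odd_card hXD) fun y hy => ?_
    ext c
    refine pow_fix (ρ := ρ) (x := x) ?_ hy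
    change ρ x (eps ρ h m c) = eps ρ h m c
    rw [hx, rho_mul, inv_apply (d.pow_eps_apply hma.symm n (d.idem_apply m c)),
      d.h_eps_apply hml.symm (d.idem_apply m c)]
  rw [mul_add, mul_add, z1, z2, mul_one, add_zero, add_zero] at z3
  rw [z3, ← add_assoc, d.add_self', zero_add]

/-- `im` of a product with a surjection. -/
theorem range_eq {T U V : AddMonoid.End A} (h1 : T = U * V) (hV : Function.Surjective V) :
    AddMonoidHom.range T = AddMonoidHom.range U := by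
  apply le_antisymm
  · rintro _ ⟨x, rfl⟩
    exact ⟨V x, by rw [h1]; rfl⟩
  · rintro _ ⟨x, rfl⟩
    obtain ⟨y, rfl⟩ := hV x
    exact ⟨y, by rw [h1]; rfl⟩

theorem real_case (d : Abs ρ S h Z p) {W : Subgroup N} (hW : IsPGroup 2 W)
    (hh : ∀ l, h l ∈ normalizer (W : Set N)) (hfix : ∀ w ∈ W, (∀ l, w * h l = h l * w) → w = 1)
    {a b : Fin k} {n : Fin k → ℕ} (hba : b ≠ a) (hpb : ¬ p ∣ n b) (hna : n a = 1) {w : N} (hw : w ∈ W)
    (hw1 : w ≠ 1) (hwc : ∀ l, w * (h l * (h a ^ n l)⁻¹) = (h l * (h a ^ n l)⁻¹) * w) : False := by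
  classical
  -- the subgroup `U`
  set U : Subgroup N := W ⊓ centralizer (Set.range fun l => h l * (h a ^ n l)⁻¹) with hU
  have memU : ∀ {y}, y ∈ U ↔ y ∈ W ∧ ∀ l, y * (h l * (h a ^ n l)⁻¹) = (h l * (h a ^ n l)⁻¹) * y := by
    intro y
    rw [hU, mem_inf, mem_centralizer_iff]
    refine and_congr_right fun _ => ⟨fun h1 l => (h1 _ ⟨l, rfl⟩).symm, ?_⟩
    rintro h1 _ ⟨l, rfl⟩
    exact (h1 l).symm
  have hwU : w ∈ U := memU.2 ⟨hw, hwc⟩
  -- an involution in the centre of `U`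
  obtain ⟨u, huU, hu1, huu, hucen⟩ : ∃ u ∈ U, u ≠ 1 ∧ u * u = 1 ∧ ∀ y ∈ U, u * y = y * u := by
    have hU2 : IsPGroup 2 U := hW.to_le inf_le_left
    have : Nontrivial U := ⟨⟨w, hwU⟩, 1, fun h1 => hw1 (congrArg Subtype.val h1)⟩
    have := hU2.center_nontrivial
    have hd : 2 ∣ Nat.card (center U) := by
      have hc2 : IsPGroup 2 (center U) := hU2.to_subgroup _
      obtain ⟨m, hm⟩ := IsPGroup.iff_card.1 hc2
      have h3 : 1 < Nat.card (center U) := Finite.one_lt_card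
      rw [hm] at h3 ⊢
      exact dvd_pow_self 2 (by rintro rfl; simp at h3)
    obtain ⟨c, hc⟩ := exists_prime_orderOf_dvd_card' 2 hd
    refine ⟨((c : U) : N), (c : U).2, ?_, ?_, ?_⟩
    · intro h3
      have : c = 1 := Subtype.ext (Subtype.ext h3)
      rw [this, orderOf_one] at hc
      omega
    · have h3 : c * c = 1 := by rw [← pow_two, ← hc]; exact pow_orderOf_eq_one c
      exact congrArg (fun z : center U => ((z : U) : N)) h3
    · intro y hy
      have h3 := mem_center_iff.1 c.2 ⟨y, hy⟩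
      exact (congrArg (fun z : U => (z : N)) h3).symm
  -- `t`, `dd`
  set t : N := h a ^ n b with ht
  have htD : t ∈ DD h := pow_mem (h_mem_DD h a) _
  have htU : ∀ y ∈ U, t * y * t⁻¹ ∈ U := by
    intro y hy
    obtain ⟨hyW, hyc⟩ := memU.1 hy
    refine memU.2 ⟨?_, fun l => ?_⟩
    · exact (mem_normalizer_iff.1 (pow_mem (hh a) (n b)) y).1 hyW
    · have h3 : t * (h l * (h a ^ n l)⁻¹) = (h l * (h a ^ n l)⁻¹) * t :=
        d.DD_comm _ htD _ (pair_mem_DD l a (n l))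
      have h4 : t⁻¹ * (h l * (h a ^ n l)⁻¹) = (h l * (h a ^ n l)⁻¹) * t⁻¹ :=
        d.DD_comm _ (inv_mem htD) _ (pair_mem_DD l a (n l))
      calc t * y * t⁻¹ * (h l * (h a ^ n l)⁻¹) = t * y * (t⁻¹ * (h l * (h a ^ n l)⁻¹)) := by group
        _ = t * (y * (h l * (h a ^ n l)⁻¹)) * t⁻¹ := by rw [h4]; group
        _ = (t * (h l * (h a ^ n l)⁻¹)) * y * t⁻¹ := by rw [hyc l]; group
        _ = (h l * (h a ^ n l)⁻¹) * (t * y * t⁻¹) := by rw [h3]; group
  have htU' : ∀ y ∈ U, t⁻¹ * y * t ∈ U := by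
    intro y hy
    obtain ⟨hyW, hyc⟩ := memU.1 hy
    refine memU.2 ⟨?_, fun l => ?_⟩
    · have := (mem_normalizer_iff.1 (inv_mem (pow_mem (hh a) (n b))) y).1 hyW
      rwa [inv_inv] at this
    · have h3 : t * (h l * (h a ^ n l)⁻¹) = (h l * (h a ^ n l)⁻¹) * t :=
        d.DD_comm _ htD _ (pair_mem_DD l a (n l))
      have h4 : t⁻¹ * (h l * (h a ^ n l)⁻¹) = (h l * (h a ^ n l)⁻¹) * t⁻¹ :=
        d.DD_comm _ (inv_mem htD) _ (pair_mem_DD l a (n l))
      calc t⁻¹ * y * t * (h l * (h a ^ n l)⁻¹) = t⁻¹ * y * (t * (h l * (h a ^ n l)⁻¹)) := by group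
        _ = t⁻¹ * (y * (h l * (h a ^ n l)⁻¹)) * t := by rw [h3]; group
        _ = (t⁻¹ * (h l * (h a ^ n l)⁻¹)) * y * t := by rw [hyc l]; group
        _ = (h l * (h a ^ n l)⁻¹) * (t⁻¹ * y * t) := by rw [h4]; group
  -- `cen y` : `y ∈ Z(U)`
  let cen : N → Prop := fun y => y ∈ U ∧ ∀ z ∈ U, y * z = z * y
  have cen_mul : ∀ {y z}, cen y → cen z → cen (y * z) := by
    rintro y z ⟨hy, hy'⟩ ⟨hz, hz'⟩
    refine ⟨mul_mem hy hz, fun x hx => ?_⟩
    rw [mul_assoc, hz' x hx, ← mul_assoc, hy' x hx, mul_assoc]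
  have cen_conj : ∀ {y}, cen y → cen (t * y * t⁻¹) := by
    rintro y ⟨hy, hy'⟩
    refine ⟨htU y hy, fun x hx => ?_⟩
    have h3 := hy' _ (htU' x hx)
    calc t * y * t⁻¹ * x = t * (y * (t⁻¹ * x * t)) * t⁻¹ := by group
      _ = x * (t * y * t⁻¹) := by rw [h3]; group
  have cu : cen u := ⟨huU, hucen⟩
  have cv : cen (t * u * t⁻¹) := cen_conj cu
  set v : N := t * u * t⁻¹ with hv
  set b₀ : N := u * v with hb₀
  have cb₀ : cen b₀ := cen_mul cu cv
  set b₁ : N := t * b₀ * t⁻¹ with hb₁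
  have cb₁ : cen b₁ := cen_conj cb₀
  have hvv : v * v = 1 := by
    calc v * v = t * (u * u) * t⁻¹ := by rw [hv]; group
      _ = 1 := by rw [huu]; group
  have huv : u * v = v * u := cu.2 v cv.1
  have hb₀2 : b₀ * b₀ = 1 := by
    calc b₀ * b₀ = u * (v * u) * v := by rw [hb₀]; group
      _ = (u * u) * (v * v) := by rw [← huv]; group
      _ = 1 := by rw [huu, hvv, one_mul]
  have hb₁2 : b₁ * b₁ = 1 := by
    calc b₁ * b₁ = t * (b₀ * b₀) * t⁻¹ := by rw [hb₁]; group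
      _ = 1 := by rw [hb₀2]; group
  -- `b₀ ≠ 1`
  have hb₀1 : b₀ ≠ 1 := by
    intro h1
    have h2 : v = u := by
      calc v = (u * u) * v := by rw [huu, one_mul]
        _ = u * b₀ := by rw [hb₀, mul_assoc]
        _ = u := by rw [h1, mul_one]
    have hut : u * t = t * u := by
      calc u * t = v * t := by rw [h2]
        _ = t * u := by rw [hv]; group
    have hua : u * h a = h a * u := by
      obtain ⟨m, hm⟩ := d.mem_zpowers_pow (a := a) hpb
      have h3 : (h a ^ n b) ^ m = h a := hm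
      rw [← h3]
      exact ((show Commute u (h a ^ n b) from hut).zpow_right m)
    have hul : ∀ l, u * h l = h l * u := by
      intro l
      have h3 := (memU.1 huU).2 l
      have h4 : u * h a ^ n l = h a ^ n l * u := (show Commute u (h a) from hua).pow_right (n l)
      calc u * h l = u * (h l * (h a ^ n l)⁻¹) * h a ^ n l := by group
        _ = (h l * (h a ^ n l)⁻¹) * (u * h a ^ n l) := by rw [h3]; group
        _ = h l * u := by rw [h4]; group
    exact hu1 (hfix u (memU.1 huU).1 hul)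
  -- `dd = t (h b)⁻¹`
  set dd : N := t * (h b)⁻¹ with hdd
  have hddD : dd ∈ DD h := mul_mem htD (inv_mem (h_mem_DD h b))
  have hdd' : dd⁻¹ = h b * (h a ^ n b)⁻¹ := by rw [hdd, ht]; group
  have hddc : ∀ y ∈ U, dd * y = y * dd := by
    intro y hy
    have h3 := (memU.1 hy).2 b
    rw [← hdd'] at h3
    calc dd * y = dd * (y * dd⁻¹) * dd := by group
      _ = y * dd := by rw [h3]; group
  have R1 : ∀ {x y : N}, x * y = y * x → ρ x * ρ y = ρ y * ρ x := by
    intro x y hxy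
    rw [← map_mul, hxy, map_mul]
  -- fixed points
  have fe : ∀ c, eps ρ h a c = c → ρ dd c = c → c = 0 := by
    intro c hc hx
    refine d.fpf_pair' hba hpb hc ?_
    rw [← hdd']
    exact inv_apply hx
  have ff : ∀ c, eps ρ h b c = c → ρ dd c = c → c = 0 := by
    intro c hc hx
    refine d.fpf_pair hba (n := n b) hc ?_
    rw [← hdd']
    exact inv_apply hx
  have sq : ∀ c, ρ dd (ρ dd c) = c → ρ dd c = c := by
    intro c hc
    have h1 : ρ (dd ^ 2) c = c := by rw [pow_two, rho_mul, hc]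
    refine pow_fix h1 ?_
    obtain ⟨m, hm⟩ := d.prime.odd_of_ne_two d.odd
    refine ⟨(m + 1 : ℕ), ?_⟩
    change (dd ^ 2) ^ ((m + 1 : ℕ) : ℤ) = dd
    rw [zpow_natCast, ← pow_mul, show 2 * (m + 1) = p + 1 by omega, pow_succ, d.DD_pow dd hddD, one_mul]
  have hab : a ≠ b := hba.symm
  obtain ⟨⟨o1, o2⟩, ⟨o3, o4⟩, ⟨o5, o6, o7⟩, -⟩ :=
    core (R := AddMonoid.End A) (End_two d.two) (e := eps ρ h a) (f := eps ρ h b) (u := ρ u) (D := ρ dd)
      (D' := ρ dd⁻¹) (H := ρ t) (H' := ρ t⁻¹) (b₀ := ρ b₀) (b₁ := ρ b₁)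
      (d.eps_idem a) (d.eps_idem b) (d.eps_orth hab) (d.eps_orth hba)
      (by rw [← map_mul, huu, map_one])
      (by
        rw [add_comm (eps ρ h a), d.eps_pair hba hpb, mul_add, add_mul, mul_one, one_mul]
        congr 1
        refine commute_avg ρ fun y hy => ?_
        refine R1 ?_
        obtain ⟨m, rfl⟩ := hy
        exact (show Commute u (h b * (h a ^ n b)⁻¹) from (memU.1 huU).2 b).zpow_right m)
      (by rw [← map_mul, mul_inv_cancel, map_one]) (by rw [← map_mul, inv_mul_cancel, map_one])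
      (d.commute_DD hddD a) (d.commute_DD hddD b) (R1 (hddc u huU)) (R1 (d.DD_comm _ hddD _ htD))
      (R1 (d.DD_comm _ hddD _ (inv_mem htD)))
      (by rw [← map_mul, inv_mul_cancel, map_one])
      (by
        ext c
        change ρ t (eps ρ h a c) = ρ dd (eps ρ h a c)
        rw [hdd, rho_mul, inv_apply (d.h_eps_apply hba (d.idem_apply a c))])
      (by
        ext c
        exact d.pow_eps_apply hab (n b) (d.idem_apply b c))
      (d.fix_rest hab fun m hma hmb => by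
        ext c
        exact d.pow_eps_apply hma.symm (n b) (d.idem_apply m c))
      (by
        rw [← map_mul, ← map_mul, ← map_mul, ← map_mul]
        exact congrArg ρ huv)
      (fun T h1 h2 => by
        ext c
        exact fe _ (congrArg (fun T : AddMonoid.End A => T c) h1) (congrArg (fun T : AddMonoid.End A => T c) h2))
      (fun T h1 h2 => by
        ext c
        exact ff _ (congrArg (fun T : AddMonoid.End A => T c) h1) (congrArg (fun T : AddMonoid.End A => T c) h2))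
      (fun T h1 h2 => by
        ext c
        exact fe _ (congrArg (fun T : AddMonoid.End A => T c) h1)
          (sq _ (congrArg (fun T : AddMonoid.End A => T c) h2)))
      (fun T h1 h2 => by
        ext c
        exact ff _ (congrArg (fun T : AddMonoid.End A => T c) h1)
          (sq _ (congrArg (fun T : AddMonoid.End A => T c) h2)))
      (by rw [hb₀, hv, map_mul, map_mul, map_mul]) (by rw [hb₁, map_mul, map_mul])
  -- the images
  set e := eps ρ h a with he
  set f := eps ρ h b with hf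
  set D := ρ dd with hD
  set D' := ρ dd⁻¹ with hD'
  have ee : e * e = e := d.eps_idem a
  have ff' : f * f = f := d.eps_idem b
  have ef : e * f = 0 := d.eps_orth hab
  have fe' : f * e = 0 := d.eps_orth hba
  have DD1 : D * D' = 1 := by rw [hD, hD', ← map_mul, mul_inv_cancel, map_one]
  have DD2 : D' * D = 1 := by rw [hD, hD', ← map_mul, inv_mul_cancel, map_one]
  have De : D * e = e * D := d.commute_DD hddD a
  have Df : D * f = f * D := d.commute_DD hddD b
  have De' : D' * e = e * D' := d.commute_DD (inv_mem hddD) a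
  have Df' : D' * f = f * D' := d.commute_DD (inv_mem hddD) b
  have hdi : ∀ y ∈ U, dd⁻¹ * y = y * dd⁻¹ := by
    intro y hy
    have := hddc y hy
    calc dd⁻¹ * y = dd⁻¹ * (y * dd) * dd⁻¹ := by group
      _ = y * dd⁻¹ := by rw [← this]; group
  have Db : D * (1 + ρ b₀) = (1 + ρ b₀) * D := by
    rw [mul_add, add_mul, mul_one, one_mul, R1 (hddc b₀ cb₀.1)]
  have Db' : D' * (1 + ρ b₀) = (1 + ρ b₀) * D' := by
    rw [mul_add, add_mul, mul_one, one_mul, R1 (hdi b₀ cb₀.1)]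
  have split : ∀ T : AddMonoid.End A, T * (1 + (e + f)) = 0 → T = T * e + T * f := by
    intro T hT
    calc T = T + (T * (e + f) + T * (e + f)) := by rw [d.add_self', add_zero]
      _ = T * (1 + (e + f)) + (T * e + T * f) := by noncomm_ring
      _ = T * e + T * f := by rw [hT, zero_add]
  have surj : ∀ E F : AddMonoid.End A, e * E = E * e → f * F = F * f →
      (∀ c, e c = c → E c = 0 → c = 0) → (∀ c, f c = c → F c = 0 → c = 0) →
      Function.Surjective ⇑(E * e + F * f + (1 + (e + f)) : AddMonoid.End A) := by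
    intro E F hE hF hE0 hF0
    refine Finite.surjective_of_injective ?_
    rw [injective_iff_map_eq_zero]
    intro x hx
    have ex : e * (E * e + F * f + (1 + (e + f))) = E * e := by
      have k1 : e * (E * e) = E * e := by rw [← mul_assoc, hE, mul_assoc, ee]
      have k2 : e * (F * f) = 0 := by rw [← hF, ← mul_assoc, ef, zero_mul]
      have k3 : e * (1 + (e + f)) = 0 := by rw [mul_add, mul_add, ee, ef, mul_one, add_zero, d.add_self']
      rw [mul_add, mul_add, k1, k2, k3, add_zero, add_zero]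
    have fx : f * (E * e + F * f + (1 + (e + f))) = F * f := by
      have k1 : f * (F * f) = F * f := by rw [← mul_assoc, hF, mul_assoc, ff']
      have k2 : f * (E * e) = 0 := by rw [← hE, ← mul_assoc, fe', zero_mul]
      have k3 : f * (1 + (e + f)) = 0 := by rw [mul_add, mul_add, ff', fe', mul_one, zero_add, d.add_self']
      rw [mul_add, mul_add, k1, k2, k3, add_zero, zero_add]
    have h1 : E (e x) = 0 := by
      have := congrArg (fun T : AddMonoid.End A => T x) ex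
      change e ((E * e + F * f + (1 + (e + f)) : AddMonoid.End A) x) = E (e x) at this
      rw [← this, hx, map_zero]
    have h2 : F (f x) = 0 := by
      have := congrArg (fun T : AddMonoid.End A => T x) fx
      change f ((E * e + F * f + (1 + (e + f)) : AddMonoid.End A) x) = F (f x) at this
      rw [← this, hx, map_zero]
    have h3 : e x = 0 := hE0 _ (d.idem_apply a x) h1
    have h4 : f x = 0 := hF0 _ (d.idem_apply b x) h2
    have h5 : E (e x) + F (f x) + (x + (e x + f x)) = 0 := hx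
    rw [h3, h4, map_zero, map_zero, zero_add, zero_add, add_zero] at h5
    exact h5
  have zero_of : ∀ (i : Fin k) (T T' : AddMonoid.End A), T' * T = 1 → ∀ c, T c = 0 → c = 0 := by
    intro i T T' hT c hc
    have := congrArg (fun T : AddMonoid.End A => T c) hT
    change T' (T c) = c at this
    rw [← this, hc, map_zero]
  have him1 : im ρ b₁ = im ρ b₀ := by
    refine range_eq (T := 1 + ρ b₁) (U := 1 + ρ b₀) (V := D' * e + D * f + (1 + (e + f))) ?_
      (surj D' D De'.symm Df.symm (fun c _ => zero_of a D' D DD1 c) (fun c _ => zero_of a D D' DD2 c))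
    calc 1 + ρ b₁ = (1 + ρ b₁) * e + (1 + ρ b₁) * f := split _ o6
      _ = D' * (1 + ρ b₀) * e + D * (1 + ρ b₀) * f := by rw [o1, o2]; noncomm_ring
      _ = (1 + ρ b₀) * (D' * e + D * f) + 0 := by rw [Db, Db']; noncomm_ring
      _ = (1 + ρ b₀) * (D' * e + D * f + (1 + (e + f))) := by rw [← o5]; noncomm_ring
  have him2 : im ρ (b₀ * b₁) = im ρ b₀ := by
    refine range_eq (T := 1 + ρ (b₀ * b₁)) (U := 1 + ρ b₀)
      (V := (1 + D') * e + (1 + D) * f + (1 + (e + f))) ?_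
      (surj (1 + D') (1 + D) (by rw [mul_add, add_mul, De', mul_one, one_mul])
        (by rw [mul_add, add_mul, Df, mul_one, one_mul]) ?_ ?_)
    · rw [map_mul]
      calc 1 + ρ b₀ * ρ b₁ = (1 + ρ b₀ * ρ b₁) * e + (1 + ρ b₀ * ρ b₁) * f := split _ o7
        _ = (1 + D') * (1 + ρ b₀) * e + (1 + D) * (1 + ρ b₀) * f := by rw [o3, o4]; noncomm_ring
        _ = (1 + ρ b₀) * e + D' * (1 + ρ b₀) * e + ((1 + ρ b₀) * f + D * (1 + ρ b₀) * f) := by noncomm_ring
        _ = (1 + ρ b₀) * ((1 + D') * e + (1 + D) * f) + 0 := by rw [Db, Db']; noncomm_ring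
        _ = (1 + ρ b₀) * ((1 + D') * e + (1 + D) * f + (1 + (e + f))) := by rw [← o5]; noncomm_ring
    · intro c hc h1
      have h2 : c + ρ dd⁻¹ c = 0 := h1
      refine fe c hc (inv_apply' ?_)
      calc ρ dd⁻¹ c = (c + c) + ρ dd⁻¹ c := by rw [d.two, zero_add]
        _ = c := by rw [add_assoc, h2, add_zero]
    · intro c hc h1
      have h2 : c + ρ dd c = 0 := h1
      refine ff c hc ?_
      calc ρ dd c = (c + c) + ρ dd c := by rw [d.two, zero_add]
        _ = c := by rw [add_assoc, h2, add_zero]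
  exact d.no_four hW (f := b₀) (g := b₁) (memU.1 cb₀.1).1 (memU.1 cb₁.1).1 hb₀2 hb₁2 (cb₀.2 b₁ cb₁.1) hb₀1
    him1.symm (by rw [← cb₀.2 b₁ cb₁.1, him2])

/-- **THEOREM C, case `q ≥ 4`, in `N = N_G(E) / C_G(E)`.** -/
theorem main (d : Abs ρ S h Z p) {W : Subgroup N} (hW : IsPGroup 2 W)
    (hh : ∀ l, h l ∈ normalizer (W : Set N))
    (hSW : ∀ s ∈ (S : Subgroup N), (∀ l, ∃ r : ℕ, s * h l * s⁻¹ = h l ^ r) → s ∈ normalizer (W : Set N)) :
    W = ⊥ := by
  by_contra hne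
  have hfix : ∀ w ∈ W, (∀ l, w * h l = h l * w) → w = 1 := fun w hw hc =>
    d.eq_one_of_eps hW hh hSW hw fun l => d.commute_eps (hc l)
  obtain ⟨a, n, hna, w, hw, hw1, hwc⟩ := exists_hyperplane d.prime d.odd d.hcomm d.hp hW hne hh hfix
  have hdiv : ∀ l, p ∣ n l → ρ w * eps ρ h l = eps ρ h l * ρ w := by
    intro l hl
    obtain ⟨m, hm⟩ := hl
    have h1 := hwc l
    have h2 : h a ^ n l = 1 := by rw [hm, pow_mul, d.hp, one_pow]
    rw [h2, inv_one, mul_one] at h1
    exact d.commute_eps h1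
  have hpair : ∀ l, l ≠ a → ¬ p ∣ n l →
      ρ w * (eps ρ h l + eps ρ h a) = (eps ρ h l + eps ρ h a) * ρ w := by
    intro l hla hl
    rw [d.eps_pair hla hl, mul_add, add_mul, mul_one, one_mul]
    congr 1
    refine commute_avg ρ fun y hy => ?_
    obtain ⟨m, rfl⟩ := hy
    rw [← map_mul, ← map_mul]
    congr 1
    exact (show Commute w (h l * (h a ^ n l)⁻¹) from hwc l).zpow_right m
  -- it suffices to commute with `eps a`
  have hsuff : ρ w * eps ρ h a = eps ρ h a * ρ w → False := by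
    intro ha
    refine hw1 (d.eq_one_of_eps hW hh hSW hw fun l => ?_)
    by_cases hla : l = a
    · rw [hla]; exact ha
    · by_cases hl : p ∣ n l
      · exact hdiv l hl
      · have h1 := hpair l hla hl
        rw [mul_add, add_mul, ha] at h1
        exact add_right_cancel h1
  by_cases hb : ∃ b, b ≠ a ∧ ¬ p ∣ n b
  · obtain ⟨b, hba, hpb⟩ := hb
    exact d.real_case hW hh hfix hba hpb hna hw hw1 hwc
  · push Not at hb
    apply hsuff
    have h1 : eps ρ h a = 1 + ∑ m ∈ Finset.univ.erase a, eps ρ h m := by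
      have h2 : eps ρ h a + ∑ m ∈ Finset.univ.erase a, eps ρ h m = 1 := by
        rw [Finset.add_sum_erase _ _ (Finset.mem_univ a), d.sum_eps]
      rw [← h2, add_assoc, d.add_self', add_zero]
    rw [h1, mul_add, add_mul, mul_one, one_mul]
    congr 1
    rw [Finset.mul_sum, Finset.sum_mul]
    exact Finset.sum_congr rfl fun m hm => hdiv m (hb m (Finset.ne_of_mem_erase hm))

end Abs

end Cfsg.Agent.Omega.ThmC.Four

end

section


/-!
# THEOREM C with `D`, case `q ≥ 4`, (3): supports of size at least 2 (after helper334's `ThmC/FourMain.lean`)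

* `eq_one_of_eps` : an element of a 2-subgroup `W` (normalised by the `h l` and by the elements of `S` which normalise
  every `⟨h l⟩`) which commutes with all `eps l` is trivial;
* `real_case` : no element `≠ 1` of `W` commutes with `h l (h a ^ n l)⁻¹` for all `l`, `p ∤ n b` for some `b ≠ a`;
* `exists_single` : if `W ≠ 1`, then some `w ≠ 1` in `W` commutes with all `h l`, `l ≠ a`.
-/

set_option autoImplicit false
set_option linter.unusedSectionVars false
set_option linter.unusedVariables false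

namespace Cfsg.Agent.Omega.IId.ThmCQ

open Subgroup Cfsg Cfsg.Agent.Omega.ThmC.Four
open Cfsg.Agent.Omega.ThmC.Four.Abs (Perm Perm.mul conj_eps pow_fix conj_eps_apply sq_apply fix_im exists_conj_le
  card_map_conj stabC mem_stabC inv_apply inv_apply' range_eq pair_mem_DD)

universe u

namespace AbsD

variable {N A : Type u} [Group N] [Finite N] [AddCommGroup A] [Finite A] {ρ : N →* AddMonoid.End A}
  {S : Sylow 2 N} {k : ℕ} {h : Fin k → N} {Z : Fin k → AddSubgroup A} {p : ℕ}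

/-! ### (3)(a) -/

theorem perm_eq (d : AbsD ρ S h Z p) {s : N} {σ : Equiv.Perm (Fin k)} (hs : Perm h s σ) {l : Fin k}
    (hc : ρ s * eps ρ h l = eps ρ h l * ρ s) : σ l = l := by
  by_contra hne
  have h2 : ρ s * ρ s⁻¹ = 1 := by rw [← map_mul, mul_inv_cancel, map_one]
  have h1 : eps ρ h (σ l) = eps ρ h l := by
    calc eps ρ h (σ l) = eps ρ h (σ l) * ρ s * ρ s⁻¹ := by rw [mul_assoc, h2, mul_one]
      _ = eps ρ h l * ρ s * ρ s⁻¹ := by rw [← conj_eps hs, hc]
      _ = eps ρ h l := by rw [mul_assoc, h2, mul_one]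
  obtain ⟨a, ha⟩ := d.eps_ne l
  apply ha
  have h3 := d.eps_orth hne
  rw [h1, d.eps_idem] at h3
  rw [h3]
  rfl

theorem S_le_normalizer (d : AbsD ρ S h Z p) : (S : Subgroup N) ≤ normalizer (stabC ρ h : Set N) := by
  have key : ∀ s ∈ (S : Subgroup N), ∀ n ∈ stabC ρ h, s * n * s⁻¹ ∈ stabC ρ h := by
    intro s hs n hn l
    obtain ⟨σ, hσ⟩ := d.perm s hs
    obtain ⟨τ, hτ⟩ := d.perm s⁻¹ (inv_mem hs)
    have h1 : σ (τ l) = l := by
      have := d.perm_eq (Perm.mul hσ hτ) (l := l) (by rw [mul_inv_cancel, map_one, one_mul, mul_one])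
      exact this
    have h2 : ρ s⁻¹ * eps ρ h l = eps ρ h (τ l) * ρ s⁻¹ := conj_eps hτ l
    have h3 : ρ s * eps ρ h (τ l) = eps ρ h l * ρ s := by rw [conj_eps hσ, h1]
    calc ρ (s * n * s⁻¹) * eps ρ h l = ρ s * ρ n * (ρ s⁻¹ * eps ρ h l) := by
          rw [map_mul, map_mul]; noncomm_ring
      _ = ρ s * (ρ n * eps ρ h (τ l)) * ρ s⁻¹ := by rw [h2]; noncomm_ring
      _ = (ρ s * eps ρ h (τ l)) * ρ n * ρ s⁻¹ := by rw [hn]; noncomm_ring
      _ = eps ρ h l * ρ (s * n * s⁻¹) := by rw [h3, map_mul, map_mul]; noncomm_ring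
  intro s hs
  rw [mem_normalizer_iff]
  intro n
  refine ⟨key s hs n, fun hn => ?_⟩
  have := key s⁻¹ (inv_mem hs) _ hn
  simpa [mul_assoc] using this

/-- (3)(a) -/
theorem mem_S (d : AbsD ρ S h Z p) {W : Subgroup N} (hW : IsPGroup 2 W)
    (hSW : ∀ s ∈ (S : Subgroup N), (∀ l, ∃ r : ℕ, s * h l * s⁻¹ = h l ^ r) → s ∈ normalizer (W : Set N))
    {w : N} (hw : w ∈ W) (hc : w ∈ stabC ρ h) : w ∈ (S : Subgroup N) := by
  set T : Subgroup N := (S : Subgroup N) ⊓ stabC ρ h with hT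
  have hTN : T ≤ normalizer ((W ⊓ stabC ρ h : Subgroup N) : Set N) := by
    rintro s ⟨hs, hs0⟩
    have h1 : s ∈ normalizer (W : Set N) := by
      refine hSW s hs fun l => ?_
      obtain ⟨σ, hσ⟩ := d.perm s hs
      obtain ⟨r, hr⟩ := hσ l
      exact ⟨r, by rw [hr, d.perm_eq hσ (hs0 l)]⟩
    have h2 := d.S_le_normalizer hs
    rw [mem_normalizer_iff] at h1 h2 ⊢
    intro n
    exact ⟨fun hn => ⟨(h1 n).1 hn.1, (h2 n).1 hn.2⟩, fun hn => ⟨(h1 n).2 hn.1, (h2 n).2 hn.2⟩⟩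
  have hT2 : IsPGroup 2 T := S.isPGroup'.to_le inf_le_left
  have hW2 : IsPGroup 2 (W ⊓ stabC ρ h : Subgroup N) := hW.to_le inf_le_left
  have hsup : IsPGroup 2 (T ⊔ (W ⊓ stabC ρ h) : Subgroup N) := hT2.to_sup_of_normal_right' hW2 hTN
  have hle : T ⊔ (W ⊓ stabC ρ h) ≤ stabC ρ h := sup_le inf_le_right inf_le_right
  obtain ⟨x, hx, hxS⟩ := exists_conj_le (S := S) (M := normalizer (stabC ρ h : Set N)) d.S_le_normalizer hsup
    (hle.trans le_normalizer)
  have h3 : (T ⊔ (W ⊓ stabC ρ h)).map (MulAut.conj x).toMonoidHom ≤ T := by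
    rintro _ ⟨t, ht, rfl⟩
    exact ⟨hxS t ht, (mem_normalizer_iff.1 hx t).1 (hle ht)⟩
  have h4 : Nat.card ↥(T ⊔ (W ⊓ stabC ρ h)) ≤ Nat.card T := by
    rw [← card_map_conj (T ⊔ (W ⊓ stabC ρ h)) x]
    exact Subgroup.card_le_of_le h3
  have h5 : T = T ⊔ (W ⊓ stabC ρ h) := eq_of_le_of_card_ge le_sup_left h4
  have h6 : w ∈ T := by
    rw [h5]
    exact mem_sup_right ⟨hw, hc⟩
  exact h6.1

/-- An element of `W` which commutes with all `eps l` is trivial. -/
theorem eq_one_of_eps (d : AbsD ρ S h Z p) {W : Subgroup N} (hW : IsPGroup 2 W)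
    (hh : ∀ l, h l ∈ normalizer (W : Set N))
    (hSW : ∀ s ∈ (S : Subgroup N), (∀ l, ∃ r : ℕ, s * h l * s⁻¹ = h l ^ r) → s ∈ normalizer (W : Set N))
    {w : N} (hw : w ∈ W) (hc : ∀ l, ρ w * eps ρ h l = eps ρ h l * ρ w) : w = 1 := by
  have hwS : w ∈ (S : Subgroup N) := d.mem_S hW hSW hw hc
  obtain ⟨σ, hσ⟩ := d.perm w hwS
  refine d.field w hwS fun l => ?_
  obtain ⟨r, hr⟩ := hσ l
  rw [d.perm_eq hσ (hc l)] at hr
  have h1 : w * (h l * w⁻¹ * (h l)⁻¹) ∈ W :=
    mul_mem hw ((mem_normalizer_iff.1 (hh l) w⁻¹).1 (inv_mem hw))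
  have h2 : w * (h l * w⁻¹ * (h l)⁻¹) = h l ^ r * (h l)⁻¹ := by rw [← hr]; group
  have h3 : (w * (h l * w⁻¹ * (h l)⁻¹)) ^ p = 1 := by
    rw [h2]
    exact d.DD_pow _ (mul_mem (pow_mem (h_mem_DD h l) r) (inv_mem (h_mem_DD h l)))
  have h4 : w * (h l * w⁻¹ * (h l)⁻¹) = 1 := by
    obtain ⟨n, hn⟩ := hW ⟨_, h1⟩
    have h5 : (w * (h l * w⁻¹ * (h l)⁻¹)) ^ 2 ^ n = 1 := congrArg Subtype.val hn
    have h6 : orderOf (w * (h l * w⁻¹ * (h l)⁻¹)) ∣ Nat.gcd p (2 ^ n) :=
      Nat.dvd_gcd (orderOf_dvd_of_pow_eq_one h3) (orderOf_dvd_of_pow_eq_one h5)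
    have h7 : Nat.Coprime p (2 ^ n) :=
      Nat.Coprime.pow_right n ((Nat.coprime_primes d.prime Nat.prime_two).2 d.odd)
    rw [h7.gcd_eq_one] at h6
    exact orderOf_eq_one_iff.1 (Nat.dvd_one.1 h6)
  calc w * h l = w * (h l * w⁻¹ * (h l)⁻¹) * h l * w := by group
    _ = h l * w := by rw [h4, one_mul]

/-! ### (3)(b) -/

theorem fix_rest (d : AbsD ρ S h Z p) {l a : Fin k} (hla : l ≠ a) {T : AddMonoid.End A}
    (hT0 : T * avg ρ (DD h) = avg ρ (DD h))
    (hT : ∀ m, m ≠ l → m ≠ a → T * eps ρ h m = eps ρ h m) :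
    T * (1 + (eps ρ h l + eps ρ h a)) = 1 + (eps ρ h l + eps ρ h a) := by
  classical
  have h1 : (1 : AddMonoid.End A) + (eps ρ h l + eps ρ h a) =
      avg ρ (DD h) + ∑ m ∈ (Finset.univ.erase l).erase a, eps ρ h m := by
    have h2 : (1 : AddMonoid.End A) = avg ρ (DD h) + (eps ρ h l + (eps ρ h a +
        ∑ m ∈ (Finset.univ.erase l).erase a, eps ρ h m)) := by
      rw [Finset.add_sum_erase _ _ (Finset.mem_erase.2 ⟨hla.symm, Finset.mem_univ a⟩),
        Finset.add_sum_erase _ _ (Finset.mem_univ l), d.sum_eps]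
    calc (1 : AddMonoid.End A) + (eps ρ h l + eps ρ h a)
        = (eps ρ h l + eps ρ h l) + (eps ρ h a + eps ρ h a) +
          (avg ρ (DD h) + ∑ m ∈ (Finset.univ.erase l).erase a, eps ρ h m) := by
          conv_lhs => rw [h2]
          abel
      _ = _ := by rw [d.add_self', d.add_self', zero_add, zero_add]
  rw [h1, mul_add, hT0, Finset.mul_sum]
  congr 1
  refine Finset.sum_congr rfl fun m hm => ?_
  rw [Finset.mem_erase, Finset.mem_erase] at hm
  exact hT m hm.2.1 hm.1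

theorem h_eps_apply (d : AbsD ρ S h Z p) {l m : Fin k} (hml : m ≠ l) {c : A} (hc : eps ρ h l c = c) :
    ρ (h m) c = c := by
  have := congrArg (fun T : AddMonoid.End A => T c) (d.h_mul_eps hml)
  change ρ (h m) (eps ρ h l c) = eps ρ h l c at this
  rwa [hc] at this

theorem mem_zpowers_pow (d : AbsD ρ S h Z p) {a : Fin k} {n : ℕ} (hn : ¬ p ∣ n) : h a ∈ zpowers (h a ^ n) := by
  have hcop : Nat.Coprime n p := ((Nat.Prime.coprime_iff_not_dvd d.prime).2 hn).symm
  obtain ⟨m, hm⟩ := exists_pow_eq_self_of_coprime (x := h a) (n := n) (by rw [d.orderOf_h]; exact hcop)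
  exact ⟨m, by change (h a ^ n) ^ (m : ℤ) = h a; rw [zpow_natCast, hm]⟩

theorem pow_eps_apply (d : AbsD ρ S h Z p) {l a : Fin k} (hla : a ≠ l) (n : ℕ) {c : A} (hc : eps ρ h l c = c) :
    ρ (h a ^ n) c = c :=
  pow_fix (d.h_eps_apply hla hc) ⟨n, zpow_natCast _ _⟩

/-- `h l (h a ^ n)⁻¹` is fixed-point-free on `C_l`. -/
theorem fpf_pair (d : AbsD ρ S h Z p) {l a : Fin k} (hla : l ≠ a) {n : ℕ} {c : A}
    (hc : eps ρ h l c = c) (hx : ρ (h l * (h a ^ n)⁻¹) c = c) : c = 0 := by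
  refine d.fpf' hc ?_
  rw [rho_mul, inv_apply (d.pow_eps_apply hla.symm n hc)] at hx
  exact hx

/-- `h l (h a ^ n)⁻¹` is fixed-point-free on `C_a`. -/
theorem fpf_pair' (d : AbsD ρ S h Z p) {l a : Fin k} (hla : l ≠ a) {n : ℕ} (hn : ¬ p ∣ n) {c : A}
    (hc : eps ρ h a c = c) (hx : ρ (h l * (h a ^ n)⁻¹) c = c) : c = 0 := by
  have h1 : h l * (h a ^ n)⁻¹ = (h a ^ n)⁻¹ * h l :=
    d.DD_comm _ (h_mem_DD h l) _ (inv_mem (pow_mem (h_mem_DD h a) n))
  rw [h1, rho_mul, d.h_eps_apply hla hc] at hx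
  exact d.fpf' hc (pow_fix (inv_apply' hx) (d.mem_zpowers_pow hn))

theorem eps_pair (d : AbsD ρ S h Z p) {l a : Fin k} (hla : l ≠ a) {n : ℕ} (hn : ¬ p ∣ n) :
    eps ρ h l + eps ρ h a = 1 + avg ρ (zpowers (h l * (h a ^ n)⁻¹)) := by
  set x := h l * (h a ^ n)⁻¹ with hx
  have hxD : x ∈ DD h := pair_mem_DD l a n
  have hXD : zpowers x ≤ DD h := zpowers_le.2 hxD
  have hcomm : ∀ m, avg ρ (zpowers x) * eps ρ h m = eps ρ h m * avg ρ (zpowers x) := fun m =>
    (commute_avg ρ fun y hy => (d.commute_DD (hXD hy) m).symm).symm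
  have hfix : ∀ c, ρ x (avg ρ (zpowers x) c) = avg ρ (zpowers x) c := fun c =>
    fix_avg_apply ρ (mem_zpowers x) c
  have z1 : avg ρ (zpowers x) * eps ρ h l = 0 := by
    ext c
    refine d.fpf_pair hla (n := n) ?_ (hfix _)
    rw [hcomm]
    exact d.idem_apply l _
  have z2 : avg ρ (zpowers x) * eps ρ h a = 0 := by
    ext c
    refine d.fpf_pair' hla hn ?_ (hfix _)
    rw [hcomm]
    exact d.idem_apply a _
  have z3 : avg ρ (zpowers x) * (1 + (eps ρ h l + eps ρ h a)) = 1 + (eps ρ h l + eps ρ h a) := by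
    refine d.fix_rest hla (d.mul_DD hXD) fun m hml hma => ?_
    refine avg_mul_of_fix ρ d.two (d.odd_card hXD) fun y hy => ?_
    ext c
    refine pow_fix (ρ := ρ) (x := x) ?_ hy
    change ρ x (eps ρ h m c) = eps ρ h m c
    rw [hx, rho_mul, inv_apply (d.pow_eps_apply hma.symm n (d.idem_apply m c)),
      d.h_eps_apply hml.symm (d.idem_apply m c)]
  rw [mul_add, mul_add, z1, z2, mul_one, add_zero, add_zero] at z3
  rw [z3, ← add_assoc, d.add_self', zero_add]

theorem real_case (d : AbsD ρ S h Z p) {W : Subgroup N} (hW : IsPGroup 2 W)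
    (hh : ∀ l, h l ∈ normalizer (W : Set N)) (hfix : ∀ w ∈ W, (∀ l, w * h l = h l * w) → w = 1)
    {a b : Fin k} {n : Fin k → ℕ} (hba : b ≠ a) (hpb : ¬ p ∣ n b) (hna : n a = 1) {w : N} (hw : w ∈ W)
    (hw1 : w ≠ 1) (hwc : ∀ l, w * (h l * (h a ^ n l)⁻¹) = (h l * (h a ^ n l)⁻¹) * w) : False := by
  classical
  -- the subgroup `U`
  set U : Subgroup N := W ⊓ centralizer (Set.range fun l => h l * (h a ^ n l)⁻¹) with hU
  have memU : ∀ {y}, y ∈ U ↔ y ∈ W ∧ ∀ l, y * (h l * (h a ^ n l)⁻¹) = (h l * (h a ^ n l)⁻¹) * y := by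
    intro y
    rw [hU, mem_inf, mem_centralizer_iff]
    refine and_congr_right fun _ => ⟨fun h1 l => (h1 _ ⟨l, rfl⟩).symm, ?_⟩
    rintro h1 _ ⟨l, rfl⟩
    exact (h1 l).symm
  have hwU : w ∈ U := memU.2 ⟨hw, hwc⟩
  -- an involution in the centre of `U`
  obtain ⟨u, huU, hu1, huu, hucen⟩ : ∃ u ∈ U, u ≠ 1 ∧ u * u = 1 ∧ ∀ y ∈ U, u * y = y * u := by
    have hU2 : IsPGroup 2 U := hW.to_le inf_le_left
    have : Nontrivial U := ⟨⟨w, hwU⟩, 1, fun h1 => hw1 (congrArg Subtype.val h1)⟩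
    have := hU2.center_nontrivial
    have hd : 2 ∣ Nat.card (center U) := by
      have hc2 : IsPGroup 2 (center U) := hU2.to_subgroup _
      obtain ⟨m, hm⟩ := IsPGroup.iff_card.1 hc2
      have h3 : 1 < Nat.card (center U) := Finite.one_lt_card
      rw [hm] at h3 ⊢
      exact dvd_pow_self 2 (by rintro rfl; simp at h3)
    obtain ⟨c, hc⟩ := exists_prime_orderOf_dvd_card' 2 hd
    refine ⟨((c : U) : N), (c : U).2, ?_, ?_, ?_⟩
    · intro h3
      have : c = 1 := Subtype.ext (Subtype.ext h3)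
      rw [this, orderOf_one] at hc
      omega
    · have h3 : c * c = 1 := by rw [← pow_two, ← hc]; exact pow_orderOf_eq_one c
      exact congrArg (fun z : center U => ((z : U) : N)) h3
    · intro y hy
      have h3 := mem_center_iff.1 c.2 ⟨y, hy⟩
      exact (congrArg (fun z : U => (z : N)) h3).symm
  -- `t`, `dd`
  set t : N := h a ^ n b with ht
  have htD : t ∈ DD h := pow_mem (h_mem_DD h a) _
  have htU : ∀ y ∈ U, t * y * t⁻¹ ∈ U := by
    intro y hy
    obtain ⟨hyW, hyc⟩ := memU.1 hy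
    refine memU.2 ⟨?_, fun l => ?_⟩
    · exact (mem_normalizer_iff.1 (pow_mem (hh a) (n b)) y).1 hyW
    · have h3 : t * (h l * (h a ^ n l)⁻¹) = (h l * (h a ^ n l)⁻¹) * t :=
        d.DD_comm _ htD _ (pair_mem_DD l a (n l))
      have h4 : t⁻¹ * (h l * (h a ^ n l)⁻¹) = (h l * (h a ^ n l)⁻¹) * t⁻¹ :=
        d.DD_comm _ (inv_mem htD) _ (pair_mem_DD l a (n l))
      calc t * y * t⁻¹ * (h l * (h a ^ n l)⁻¹) = t * y * (t⁻¹ * (h l * (h a ^ n l)⁻¹)) := by group
        _ = t * (y * (h l * (h a ^ n l)⁻¹)) * t⁻¹ := by rw [h4]; group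
        _ = (t * (h l * (h a ^ n l)⁻¹)) * y * t⁻¹ := by rw [hyc l]; group
        _ = (h l * (h a ^ n l)⁻¹) * (t * y * t⁻¹) := by rw [h3]; group
  have htU' : ∀ y ∈ U, t⁻¹ * y * t ∈ U := by
    intro y hy
    obtain ⟨hyW, hyc⟩ := memU.1 hy
    refine memU.2 ⟨?_, fun l => ?_⟩
    · have := (mem_normalizer_iff.1 (inv_mem (pow_mem (hh a) (n b))) y).1 hyW
      rwa [inv_inv] at this
    · have h3 : t * (h l * (h a ^ n l)⁻¹) = (h l * (h a ^ n l)⁻¹) * t :=
        d.DD_comm _ htD _ (pair_mem_DD l a (n l))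
      have h4 : t⁻¹ * (h l * (h a ^ n l)⁻¹) = (h l * (h a ^ n l)⁻¹) * t⁻¹ :=
        d.DD_comm _ (inv_mem htD) _ (pair_mem_DD l a (n l))
      calc t⁻¹ * y * t * (h l * (h a ^ n l)⁻¹) = t⁻¹ * y * (t * (h l * (h a ^ n l)⁻¹)) := by group
        _ = t⁻¹ * (y * (h l * (h a ^ n l)⁻¹)) * t := by rw [h3]; group
        _ = (t⁻¹ * (h l * (h a ^ n l)⁻¹)) * y * t := by rw [hyc l]; group
        _ = (h l * (h a ^ n l)⁻¹) * (t⁻¹ * y * t) := by rw [h4]; group
  -- `cen y` : `y ∈ Z(U)`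
  let cen : N → Prop := fun y => y ∈ U ∧ ∀ z ∈ U, y * z = z * y
  have cen_mul : ∀ {y z}, cen y → cen z → cen (y * z) := by
    rintro y z ⟨hy, hy'⟩ ⟨hz, hz'⟩
    refine ⟨mul_mem hy hz, fun x hx => ?_⟩
    rw [mul_assoc, hz' x hx, ← mul_assoc, hy' x hx, mul_assoc]
  have cen_conj : ∀ {y}, cen y → cen (t * y * t⁻¹) := by
    rintro y ⟨hy, hy'⟩
    refine ⟨htU y hy, fun x hx => ?_⟩
    have h3 := hy' _ (htU' x hx)
    calc t * y * t⁻¹ * x = t * (y * (t⁻¹ * x * t)) * t⁻¹ := by group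
      _ = x * (t * y * t⁻¹) := by rw [h3]; group
  have cu : cen u := ⟨huU, hucen⟩
  have cv : cen (t * u * t⁻¹) := cen_conj cu
  set v : N := t * u * t⁻¹ with hv
  set b₀ : N := u * v with hb₀
  have cb₀ : cen b₀ := cen_mul cu cv
  set b₁ : N := t * b₀ * t⁻¹ with hb₁
  have cb₁ : cen b₁ := cen_conj cb₀
  have hvv : v * v = 1 := by
    calc v * v = t * (u * u) * t⁻¹ := by rw [hv]; group
      _ = 1 := by rw [huu]; group
  have huv : u * v = v * u := cu.2 v cv.1
  have hb₀2 : b₀ * b₀ = 1 := by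
    calc b₀ * b₀ = u * (v * u) * v := by rw [hb₀]; group
      _ = (u * u) * (v * v) := by rw [← huv]; group
      _ = 1 := by rw [huu, hvv, one_mul]
  have hb₁2 : b₁ * b₁ = 1 := by
    calc b₁ * b₁ = t * (b₀ * b₀) * t⁻¹ := by rw [hb₁]; group
      _ = 1 := by rw [hb₀2]; group
  -- `b₀ ≠ 1`
  have hb₀1 : b₀ ≠ 1 := by
    intro h1
    have h2 : v = u := by
      calc v = (u * u) * v := by rw [huu, one_mul]
        _ = u * b₀ := by rw [hb₀, mul_assoc]
        _ = u := by rw [h1, mul_one]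
    have hut : u * t = t * u := by
      calc u * t = v * t := by rw [h2]
        _ = t * u := by rw [hv]; group
    have hua : u * h a = h a * u := by
      obtain ⟨m, hm⟩ := d.mem_zpowers_pow (a := a) hpb
      have h3 : (h a ^ n b) ^ m = h a := hm
      rw [← h3]
      exact ((show Commute u (h a ^ n b) from hut).zpow_right m)
    have hul : ∀ l, u * h l = h l * u := by
      intro l
      have h3 := (memU.1 huU).2 l
      have h4 : u * h a ^ n l = h a ^ n l * u := (show Commute u (h a) from hua).pow_right (n l)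
      calc u * h l = u * (h l * (h a ^ n l)⁻¹) * h a ^ n l := by group
        _ = (h l * (h a ^ n l)⁻¹) * (u * h a ^ n l) := by rw [h3]; group
        _ = h l * u := by rw [h4]; group
    exact hu1 (hfix u (memU.1 huU).1 hul)
  -- `dd = t (h b)⁻¹`
  set dd : N := t * (h b)⁻¹ with hdd
  have hddD : dd ∈ DD h := mul_mem htD (inv_mem (h_mem_DD h b))
  have hdd' : dd⁻¹ = h b * (h a ^ n b)⁻¹ := by rw [hdd, ht]; group
  have hddc : ∀ y ∈ U, dd * y = y * dd := by
    intro y hy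
    have h3 := (memU.1 hy).2 b
    rw [← hdd'] at h3
    calc dd * y = dd * (y * dd⁻¹) * dd := by group
      _ = y * dd := by rw [h3]; group
  have R1 : ∀ {x y : N}, x * y = y * x → ρ x * ρ y = ρ y * ρ x := by
    intro x y hxy
    rw [← map_mul, hxy, map_mul]
  -- fixed points
  have fe : ∀ c, eps ρ h a c = c → ρ dd c = c → c = 0 := by
    intro c hc hx
    refine d.fpf_pair' hba hpb hc ?_
    rw [← hdd']
    exact inv_apply hx
  have ff : ∀ c, eps ρ h b c = c → ρ dd c = c → c = 0 := by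
    intro c hc hx
    refine d.fpf_pair hba (n := n b) hc ?_
    rw [← hdd']
    exact inv_apply hx
  have sq : ∀ c, ρ dd (ρ dd c) = c → ρ dd c = c := by
    intro c hc
    have h1 : ρ (dd ^ 2) c = c := by rw [pow_two, rho_mul, hc]
    refine pow_fix h1 ?_
    obtain ⟨m, hm⟩ := d.prime.odd_of_ne_two d.odd
    refine ⟨(m + 1 : ℕ), ?_⟩
    change (dd ^ 2) ^ ((m + 1 : ℕ) : ℤ) = dd
    rw [zpow_natCast, ← pow_mul, show 2 * (m + 1) = p + 1 by omega, pow_succ, d.DD_pow dd hddD, one_mul]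
  have hab : a ≠ b := hba.symm
  obtain ⟨⟨o1, o2⟩, ⟨o3, o4⟩, ⟨o5, o6, o7⟩, -⟩ :=
    core (R := AddMonoid.End A) (End_two d.two) (e := eps ρ h a) (f := eps ρ h b) (u := ρ u) (D := ρ dd)
      (D' := ρ dd⁻¹) (H := ρ t) (H' := ρ t⁻¹) (b₀ := ρ b₀) (b₁ := ρ b₁)
      (d.eps_idem a) (d.eps_idem b) (d.eps_orth hab) (d.eps_orth hba)
      (by rw [← map_mul, huu, map_one])
      (by
        rw [add_comm (eps ρ h a), d.eps_pair hba hpb, mul_add, add_mul, mul_one, one_mul]
        congr 1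
        refine commute_avg ρ fun y hy => ?_
        refine R1 ?_
        obtain ⟨m, rfl⟩ := hy
        exact (show Commute u (h b * (h a ^ n b)⁻¹) from (memU.1 huU).2 b).zpow_right m)
      (by rw [← map_mul, mul_inv_cancel, map_one]) (by rw [← map_mul, inv_mul_cancel, map_one])
      (d.commute_DD hddD a) (d.commute_DD hddD b) (R1 (hddc u huU)) (R1 (d.DD_comm _ hddD _ htD))
      (R1 (d.DD_comm _ hddD _ (inv_mem htD)))
      (by rw [← map_mul, inv_mul_cancel, map_one])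
      (by
        ext c
        change ρ t (eps ρ h a c) = ρ dd (eps ρ h a c)
        rw [hdd, rho_mul, inv_apply (d.h_eps_apply hba (d.idem_apply a c))])
      (by
        ext c
        exact d.pow_eps_apply hab (n b) (d.idem_apply b c))
      (d.fix_rest hab (left_avg ρ htD) fun m hma hmb => by
        ext c
        exact d.pow_eps_apply hma.symm (n b) (d.idem_apply m c))
      (by
        rw [← map_mul, ← map_mul, ← map_mul, ← map_mul]
        exact congrArg ρ huv)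
      (fun T h1 h2 => by
        ext c
        exact fe _ (congrArg (fun T : AddMonoid.End A => T c) h1) (congrArg (fun T : AddMonoid.End A => T c) h2))
      (fun T h1 h2 => by
        ext c
        exact ff _ (congrArg (fun T : AddMonoid.End A => T c) h1) (congrArg (fun T : AddMonoid.End A => T c) h2))
      (fun T h1 h2 => by
        ext c
        exact fe _ (congrArg (fun T : AddMonoid.End A => T c) h1)
          (sq _ (congrArg (fun T : AddMonoid.End A => T c) h2)))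
      (fun T h1 h2 => by
        ext c
        exact ff _ (congrArg (fun T : AddMonoid.End A => T c) h1)
          (sq _ (congrArg (fun T : AddMonoid.End A => T c) h2)))
      (by rw [hb₀, hv, map_mul, map_mul, map_mul]) (by rw [hb₁, map_mul, map_mul])
  -- the images
  set e := eps ρ h a with he
  set f := eps ρ h b with hf
  set D := ρ dd with hD
  set D' := ρ dd⁻¹ with hD'
  have ee : e * e = e := d.eps_idem a
  have ff' : f * f = f := d.eps_idem b
  have ef : e * f = 0 := d.eps_orth hab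
  have fe' : f * e = 0 := d.eps_orth hba
  have DD1 : D * D' = 1 := by rw [hD, hD', ← map_mul, mul_inv_cancel, map_one]
  have DD2 : D' * D = 1 := by rw [hD, hD', ← map_mul, inv_mul_cancel, map_one]
  have De : D * e = e * D := d.commute_DD hddD a
  have Df : D * f = f * D := d.commute_DD hddD b
  have De' : D' * e = e * D' := d.commute_DD (inv_mem hddD) a
  have Df' : D' * f = f * D' := d.commute_DD (inv_mem hddD) b
  have hdi : ∀ y ∈ U, dd⁻¹ * y = y * dd⁻¹ := by
    intro y hy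
    have := hddc y hy
    calc dd⁻¹ * y = dd⁻¹ * (y * dd) * dd⁻¹ := by group
      _ = y * dd⁻¹ := by rw [← this]; group
  have Db : D * (1 + ρ b₀) = (1 + ρ b₀) * D := by
    rw [mul_add, add_mul, mul_one, one_mul, R1 (hddc b₀ cb₀.1)]
  have Db' : D' * (1 + ρ b₀) = (1 + ρ b₀) * D' := by
    rw [mul_add, add_mul, mul_one, one_mul, R1 (hdi b₀ cb₀.1)]
  have split : ∀ T : AddMonoid.End A, T * (1 + (e + f)) = 0 → T = T * e + T * f := by
    intro T hT
    calc T = T + (T * (e + f) + T * (e + f)) := by rw [d.add_self', add_zero]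
      _ = T * (1 + (e + f)) + (T * e + T * f) := by noncomm_ring
      _ = T * e + T * f := by rw [hT, zero_add]
  have surj : ∀ E F : AddMonoid.End A, e * E = E * e → f * F = F * f →
      (∀ c, e c = c → E c = 0 → c = 0) → (∀ c, f c = c → F c = 0 → c = 0) →
      Function.Surjective ⇑(E * e + F * f + (1 + (e + f)) : AddMonoid.End A) := by
    intro E F hE hF hE0 hF0
    refine Finite.surjective_of_injective ?_
    rw [injective_iff_map_eq_zero]
    intro x hx
    have ex : e * (E * e + F * f + (1 + (e + f))) = E * e := by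
      have k1 : e * (E * e) = E * e := by rw [← mul_assoc, hE, mul_assoc, ee]
      have k2 : e * (F * f) = 0 := by rw [← hF, ← mul_assoc, ef, zero_mul]
      have k3 : e * (1 + (e + f)) = 0 := by rw [mul_add, mul_add, ee, ef, mul_one, add_zero, d.add_self']
      rw [mul_add, mul_add, k1, k2, k3, add_zero, add_zero]
    have fx : f * (E * e + F * f + (1 + (e + f))) = F * f := by
      have k1 : f * (F * f) = F * f := by rw [← mul_assoc, hF, mul_assoc, ff']
      have k2 : f * (E * e) = 0 := by rw [← hE, ← mul_assoc, fe', zero_mul]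
      have k3 : f * (1 + (e + f)) = 0 := by rw [mul_add, mul_add, ff', fe', mul_one, zero_add, d.add_self']
      rw [mul_add, mul_add, k1, k2, k3, add_zero, zero_add]
    have h1 : E (e x) = 0 := by
      have := congrArg (fun T : AddMonoid.End A => T x) ex
      change e ((E * e + F * f + (1 + (e + f)) : AddMonoid.End A) x) = E (e x) at this
      rw [← this, hx, map_zero]
    have h2 : F (f x) = 0 := by
      have := congrArg (fun T : AddMonoid.End A => T x) fx
      change f ((E * e + F * f + (1 + (e + f)) : AddMonoid.End A) x) = F (f x) at this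
      rw [← this, hx, map_zero]
    have h3 : e x = 0 := hE0 _ (d.idem_apply a x) h1
    have h4 : f x = 0 := hF0 _ (d.idem_apply b x) h2
    have h5 : E (e x) + F (f x) + (x + (e x + f x)) = 0 := hx
    rw [h3, h4, map_zero, map_zero, zero_add, zero_add, add_zero] at h5
    exact h5
  have zero_of : ∀ (i : Fin k) (T T' : AddMonoid.End A), T' * T = 1 → ∀ c, T c = 0 → c = 0 := by
    intro i T T' hT c hc
    have := congrArg (fun T : AddMonoid.End A => T c) hT
    change T' (T c) = c at this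
    rw [← this, hc, map_zero]
  have him1 : im ρ b₁ = im ρ b₀ := by
    refine range_eq (T := 1 + ρ b₁) (U := 1 + ρ b₀) (V := D' * e + D * f + (1 + (e + f))) ?_
      (surj D' D De'.symm Df.symm (fun c _ => zero_of a D' D DD1 c) (fun c _ => zero_of a D D' DD2 c))
    calc 1 + ρ b₁ = (1 + ρ b₁) * e + (1 + ρ b₁) * f := split _ o6
      _ = D' * (1 + ρ b₀) * e + D * (1 + ρ b₀) * f := by rw [o1, o2]; noncomm_ring
      _ = (1 + ρ b₀) * (D' * e + D * f) + 0 := by rw [Db, Db']; noncomm_ring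
      _ = (1 + ρ b₀) * (D' * e + D * f + (1 + (e + f))) := by rw [← o5]; noncomm_ring
  have him2 : im ρ (b₀ * b₁) = im ρ b₀ := by
    refine range_eq (T := 1 + ρ (b₀ * b₁)) (U := 1 + ρ b₀)
      (V := (1 + D') * e + (1 + D) * f + (1 + (e + f))) ?_
      (surj (1 + D') (1 + D) (by rw [mul_add, add_mul, De', mul_one, one_mul])
        (by rw [mul_add, add_mul, Df, mul_one, one_mul]) ?_ ?_)
    · rw [map_mul]
      calc 1 + ρ b₀ * ρ b₁ = (1 + ρ b₀ * ρ b₁) * e + (1 + ρ b₀ * ρ b₁) * f := split _ o7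
        _ = (1 + D') * (1 + ρ b₀) * e + (1 + D) * (1 + ρ b₀) * f := by rw [o3, o4]; noncomm_ring
        _ = (1 + ρ b₀) * e + D' * (1 + ρ b₀) * e + ((1 + ρ b₀) * f + D * (1 + ρ b₀) * f) := by noncomm_ring
        _ = (1 + ρ b₀) * ((1 + D') * e + (1 + D) * f) + 0 := by rw [Db, Db']; noncomm_ring
        _ = (1 + ρ b₀) * ((1 + D') * e + (1 + D) * f + (1 + (e + f))) := by rw [← o5]; noncomm_ring
    · intro c hc h1
      have h2 : c + ρ dd⁻¹ c = 0 := h1
      refine fe c hc (inv_apply' ?_)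
      calc ρ dd⁻¹ c = (c + c) + ρ dd⁻¹ c := by rw [d.two, zero_add]
        _ = c := by rw [add_assoc, h2, add_zero]
    · intro c hc h1
      have h2 : c + ρ dd c = 0 := h1
      refine ff c hc ?_
      calc ρ dd c = (c + c) + ρ dd c := by rw [d.two, zero_add]
        _ = c := by rw [add_assoc, h2, add_zero]
  exact d.no_four hW (f := b₀) (g := b₁) (memU.1 cb₀.1).1 (memU.1 cb₁.1).1 hb₀2 hb₁2 (cb₀.2 b₁ cb₁.1) hb₀1
    him1.symm (by rw [← cb₀.2 b₁ cb₁.1, him2])

/-- If `W ≠ 1`, then some `w ≠ 1` in `W` commutes with all `h l`, `l ≠ a`. -/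
theorem exists_single (d : AbsD ρ S h Z p) {W : Subgroup N} (hW : IsPGroup 2 W) (hne : W ≠ ⊥)
    (hh : ∀ l, h l ∈ normalizer (W : Set N)) (hfix : ∀ w ∈ W, (∀ l, w * h l = h l * w) → w = 1) :
    ∃ a, ∃ w ∈ W, w ≠ 1 ∧ ∀ l, l ≠ a → w * h l = h l * w := by
  obtain ⟨a, n, hna, w, hw, hw1, hwc⟩ := exists_hyperplane d.prime d.odd d.hcomm d.hp hW hne hh hfix
  by_cases hb : ∃ b, b ≠ a ∧ ¬ p ∣ n b
  · obtain ⟨b, hba, hpb⟩ := hb
    exact (d.real_case hW hh hfix hba hpb hna hw hw1 hwc).elim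
  · push Not at hb
    refine ⟨a, w, hw, hw1, fun l hl => ?_⟩
    obtain ⟨m, hm⟩ := hb l hl
    have h1 := hwc l
    have h2 : h a ^ n l = 1 := by rw [hm, pow_mul, d.hp, one_pow]
    rw [h2, inv_one, mul_one] at h1
    exact h1

end AbsD

end Cfsg.Agent.Omega.IId.ThmCQ

end

end
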