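import Cfsg.Agent.Mrg.Omega.ThmC.TwoE

-- merged: Cfsg.Agent.Mrg.Omega.ThmC.TwoOut
section

/-!
# THEOREM C, `q = 2`, steps (2)-(5) at the level of `G`

`Dat.out` : `TwoN.main` for an element `w ∈ W ∩ N(S⁰)`; `Dat.step` : the outcome of (2)-(5).
-/

set_option autoImplicit false
set_option linter.unusedSectionVars false

namespace Cfsg.Agent.Omega.ThmC

open scoped Pointwise
open Subgroup Cfsg Cfsg.Agent.MinSimple.VModule
open Cfsg.Agent.ZN (zc o2)
open Cfsg.Agent.Omega.IITwo.Count (conj_mem conj_mem' mem_norm)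

universe u

variable {G : Type u} [Group G]

/-- `N(S⁰) ≤ N(E)`. -/
theorem norE {S : Sylow 2 G} {ι : Type} {Z : ι → Subgroup G} {w : G}
    (h : w ∈ normalizer (S0 (S : Subgroup G) Z : Set G)) :
    w ∈ normalizer (zc (S0 (S : Subgroup G) Z) : Set G) := normalizer_le_normalizer_zc _ h

namespace Dat

variable {S : Sylow 2 G} {Q : Subgroup G} {ι : Type} {Z : ι → Subgroup G} {x z : ι → G}

/-- the outcome of (2)-(5) for the element `w` of `W ∩ N(S⁰)`, at the level of `N = N_G(E)/C_G(E)`. -/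
structure Res [Finite G] [Finite ι] (D : Dat S Q Z x z) (o q : ι) {w : G}
    (hw : w ∈ normalizer (S0 (S : Subgroup G) Z : Set G)) (star : ι → ι)
    (τ : ↥(NG (S0 (S : Subgroup G) Z))) : Prop where
  so : star o = q
  ne : ∀ l, star l ≠ l
  inv : ∀ l, star (star l) = l
  perm : ∀ s ∈ (S : Subgroup G), ∀ l, D.sg s (star l) = star (D.sg s l)
  mem : τ ∈ (D.TT : Subgroup ↥(NG (S0 (S : Subgroup G) Z)))
  map : D.sN τ o = star o
  sq : τ * τ = 1
  tr : ∀ l, l ≠ o → l ≠ star o → ∀ a : Md (S0 (S : Subgroup G) Z), (phi (norE hw) * τ) • D.pE l a = D.pE l a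
  pr : ∀ l, l ≠ o → l ≠ star o → ∀ a : Md (S0 (S : Subgroup G) Z), D.pE l ((phi (norE hw) * τ) • a) = D.pE l a
  three : ∀ a : Md (S0 (S : Subgroup G) Z), D.pE o a + D.pE (star o) a = a →
    a + (phi (norE hw) * τ) • a + (phi (norE hw) * τ) • (phi (norE hw) * τ) • a = 0
  comm : ∀ s ∈ (D.TT : Subgroup ↥(NG (S0 (S : Subgroup G) Z))), D.sN s o = o →
    s * (phi (norE hw) * τ) = (phi (norE hw) * τ) * s
  tinv : τ * (phi (norE hw) * τ) * τ = (phi (norE hw) * τ)⁻¹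
  zo : (phi (norE hw) * τ) • D.zE o = D.zE o + D.zE (star o)
  zs : (phi (norE hw) * τ) • D.zE (star o) = D.zE o

section
variable [Finite G] [Finite ι] (D : Dat S Q Z x z) {o : ι}

theorem img_mono {X Y Y' : Subgroup G} (h : Y ≤ Y') : img X Y ≤ img X Y' := by
  intro n hn
  obtain ⟨g, hg, hgY, rfl⟩ := mem_img.mp hn
  exact phi_mem_img hg (h hgY)

theorem out [Fintype ι] {w : G} (hw : w ∈ WW (z o)) (hwN : w ∈ normalizer (S0 (S : Subgroup G) Z : Set G))
    (h1 : phi (norE hwN) ≠ 1) (h2 : ∀ a : Md (S0 (S : Subgroup G) Z), phi (norE hwN) • phi (norE hwN) • a = a) (p q : ι) (hpq : p ≠ q)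
    (hs1 : ∀ l, l ≠ p → l ≠ q → ∀ a : Md (S0 (S : Subgroup G) Z), phi (norE hwN) • D.pE l a = D.pE l a)
    (hs2 : ∀ l, l ≠ p → l ≠ q → ∀ a : Md (S0 (S : Subgroup G) Z), D.pE l (phi (norE hwN) • a) = D.pE l a)
    (alt : p = o ∨ (p ≠ o ∧ q ≠ o ∧ ∃ a : Md (S0 (S : Subgroup G) Z), a ≠ 0 ∧ (D.pE p a = a ∨ D.pE q a = a) ∧
      phi (norE hwN) • a = a)) :
    p = o ∧ ∃ star τ, D.Res o q hwN star τ := by
  set T : Subgroup G := (S : Subgroup G) ⊓ centralizer {z o} with hT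
  have hTn : T ≤ normalizer (WW (z o) : Set G) := inf_le_right.trans (le_nor_WW _)
  have hR : IsPGroup 2 ↥(T ⊔ WW (z o)) :=
    (S.2.to_le inf_le_left : IsPGroup 2 T).to_sup_of_normal_right' (WW_two _) hTn
  have hC : T ⊔ WW (z o) ≤ centralizer {z o} := sup_le inf_le_right (WW_le _)
  obtain ⟨star, τ, e1, e2, e3, e4, e5, e6, e7, e8, e9, e10, e11, e12, e13, e14, e15, e16⟩ :=
    TwoN.main D.ndat o (img _ (T ⊔ WW (z o))) (img _ (WW (z o))) (img_isPGroup hR)
      (by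
        intro n hn hno
        obtain ⟨s, hs, rfl⟩ := D.mem_TT.mp hn
        rw [D.sN_phi hs] at hno
        exact phi_mem_img _ (le_sup_left (α := Subgroup G) (mem_inf.mpr ⟨hs, (D.sg_iff_z hs).mp hno⟩)))
      (img_mono le_sup_right)
      (by
        intro n hn hno m hm
        obtain ⟨s, hs, rfl⟩ := D.mem_TT.mp hn
        obtain ⟨g, hg, hgW, rfl⟩ := mem_img.mp hm
        rw [D.sN_phi hs] at hno
        rw [phi_mul, phi_inv, phi_mul]
        exact phi_mem_img _ (conj_mem (hTn (mem_inf.mpr ⟨hs, (D.sg_iff_z hs).mp hno⟩)) hgW))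
      (by
        intro r hr
        obtain ⟨g, hg, hgT, rfl⟩ := mem_img.mp hr
        apply Md.ext
        rw [val_phi, val_zE]
        exact mem_cs'.mp (hC hgT))
      (phi (norE hwN)) (phi_mem_img _ hw) h1 h2 p q hpq hs1 hs2 alt
  refine ⟨e1, star, τ, ⟨e2, e3, e4, ?_, e6, e7, e8, e10, e11, e12, e13, e14, e15, e16⟩⟩
  intro s hs l
  have := e5 _ (D.mem_TT.mpr ⟨s, hs, rfl⟩) l
  rwa [D.sN_phi hs, D.sN_phi hs] at this

/-- a lift of `b`, a fixed point of `S⁰` in `B`. -/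
theorem out_of [Fintype ι] {B : Subgroup ↥(NG (KQ S Q (z o)))}
    (hBH : B ≤ img (KQ S Q (z o)) (Wp S Q (z o))) (hB2 : ∀ b ∈ B, b * b = 1) {p q : ι} (hpq : p ≠ q)
    (hs1 : ∀ b ∈ B, ∀ l, l ≠ p → l ≠ q → ∀ a : Md (KQ S Q (z o)), b • D.pK o l a = D.pK o l a)
    (hs2 : ∀ b ∈ B, ∀ l, l ≠ p → l ≠ q → ∀ a : Md (KQ S Q (z o)), D.pK o l (b • a) = D.pK o l a)
    (alt : p = o ∨ (p ≠ o ∧ q ≠ o ∧ ∃ a : Md (KQ S Q (z o)), a ≠ 0 ∧ (D.pK o p a = a ∨ D.pK o q a = a) ∧
      (∀ u ∈ img (KQ S Q (z o)) (S0 (S : Subgroup G) Z), u • a = a) ∧ ∀ b ∈ B, b • a = a))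
    {b : ↥(NG (KQ S Q (z o)))} (hb : b ∈ B) (hb1 : b ≠ 1)
    (hbU : ∀ u : ↥(NG (KQ S Q (z o))), u ∈ img (KQ S Q (z o)) (S0 (S : Subgroup G) Z) → u * b * u⁻¹ = b) :
    ∃ (w : G) (hw : w ∈ Wp S Q (z o)) (hwN : w ∈ normalizer (S0 (S : Subgroup G) Z : Set G)),
      phi (Wp_nor_ZK hw) = b ∧ p = o ∧ ∃ star τ, D.Res o q hwN star τ := by
  obtain ⟨w, hwK, hw, rfl⟩ := mem_img.mp (hBH hb)
  have hwN : w ∈ normalizer (S0 (S : Subgroup G) Z : Set G) := D.nor_S0_of hw hbU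
  have hval : ∀ v ∈ zc (S0 (S : Subgroup G) Z), v ∈ zc (KQ S Q (z o)) := fun v hv => D.E_le_ZK hv
  refine ⟨w, hw, hwN, rfl, D.out (Wp_le hw) hwN ?_ ?_ p q hpq ?_ ?_ ?_⟩
  · intro h0
    rw [phi_eq_one_iff] at h0
    have hc2 : ∃ n : ℕ, w ^ 2 ^ n = 1 := by
      obtain ⟨n, hn⟩ := WW_two (z o) ⟨w, Wp_le hw⟩
      exact ⟨n, congrArg Subtype.val hn⟩
    have h1 := D.mem_S0_of hc2 h0 hwN
    apply hb1
    rw [phi_eq_one_iff]
    exact D.K_le_C (mem_inf.mpr ⟨Wp_le hw, S0_le h1⟩)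
  · intro a
    have h1 := hB2 _ hb
    rw [phi_mul, phi_eq_one_iff, mem_centralizer_iff] at h1
    have h2 := h1 _ (hval _ a.val_mem)
    apply Md.ext
    rw [val_phi, val_phi]
    calc w * (w * a.val * w⁻¹) * w⁻¹ = (w * w) * a.val * (w * w)⁻¹ := by group
      _ = a.val := by rw [← h2]; group
  · intro l hl hl' a
    apply Md.ext
    rw [val_phi, val_pX]
    exact congrArg Md.val (hs1 _ hb l hl hl' (Md.mk a.val (hval _ a.val_mem)))
  · intro l hl hl' a
    apply Md.ext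
    rw [val_pX, val_phi, val_pX]
    exact congrArg Md.val (hs2 _ hb l hl hl' (Md.mk a.val (hval _ a.val_mem)))
  · rcases alt with h | ⟨h1, h2, a, ha0, ha1, ha2, ha3⟩
    · exact Or.inl h
    · right
      refine ⟨h1, h2, ?_⟩
      have haE : a.val ∈ zc (S0 (S : Subgroup G) Z) := by
        rw [D.mem_E]
        refine ⟨D.ZK_le a.val_mem, fun s hs => ?_⟩
        have h3 := congrArg Md.val (ha2 _ (phi_mem_img (D.S0_nor_ZK hs) hs))
        rw [val_phi] at h3
        exact mul_inv_eq_iff_eq_mul.mp h3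
      refine ⟨Md.mk a.val haE, fun h => ha0 ?_, ?_, ?_⟩
      · have h4 : a.val = 1 := congrArg Md.val h
        exact Md.val_eq_one.mp h4
      · rcases ha1 with h3 | h3
        · have h4 := congrArg Md.val h3
          exact Or.inl (Md.ext h4)
        · have h4 := congrArg Md.val h3
          exact Or.inr (Md.ext h4)
      · have h4 := congrArg Md.val (ha3 _ hb)
        exact Md.ext h4

/-- **Outcome of (2)-(5).** -/
theorem step [Fintype ι] (h : ¬ WW (z o) ≤ (S : Subgroup G)) :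
    ∃ (q : ι) (w : G) (_ : w ∈ WW (z o)) (hwN : w ∈ normalizer (S0 (S : Subgroup G) Z : Set G))
      (star : ι → ι) (τ : ↥(NG (S0 (S : Subgroup G) Z))), D.Res o q hwN star τ ∧
      ∃ w1 ∈ WW (z o), ∃ w2 ∈ WW (z o), w1 * z q * w1⁻¹ ≠ z q ∧ w2 * z q * w2⁻¹ ≠ z q ∧
        w1 * z q * w1⁻¹ ≠ w2 * z q * w2⁻¹ := by
  have hH : img (KQ S Q (z o)) (Wp S Q (z o)) ≠ ⊥ := by
    intro h0
    obtain ⟨w, hw, hwS⟩ := D.exists_Wp h
    have h1 : phi (Wp_nor_ZK hw) = 1 := by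
      rw [← mem_bot, ← h0]
      exact phi_mem_img _ hw
    rw [phi_eq_one_iff] at h1
    exact hwS (mem_inf.mp (D.Wp_faith hw h1)).2
  obtain ⟨B, p, q, hBH, hBne, hpq, hB2, hBU, hs1, hs2, alt⟩ := TwoW.main D.wdat hH
  have hB : IsPGroup 2 B := fun b => ⟨1, Subtype.ext (by
    have := hB2 b b.2
    simpa [pow_two] using this)⟩
  have hU : IsPGroup 2 (img (KQ S Q (z o)) (S0 (S : Subgroup G) Z)) := img_isPGroup (S.2.to_le S0_le)
  have alt' : p = o ∨ (p ≠ o ∧ q ≠ o ∧ ∃ a : Md (KQ S Q (z o)), a ≠ 0 ∧ (D.pK o p a = a ∨ D.pK o q a = a) ∧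
      (∀ u ∈ img (KQ S Q (z o)) (S0 (S : Subgroup G) Z), u • a = a) ∧ ∀ b ∈ B, b • a = a) := by
    rcases alt with h | h
    · exact Or.inl h.1
    · exact Or.inr h
  obtain ⟨b, hb, hb1, hbU⟩ := Half.exists_fixed hB hBne hU (fun u hu => mem_norm (hBU u hu))
  obtain ⟨w, hw, hwN, hwb, hpo, star, τ, hres⟩ := D.out_of hBH hB2 hpq hs1 hs2 alt' hb hb1 hbU
  have hx : ∀ b ∈ B, D.xh o q * b * (D.xh o q)⁻¹ ∈ B ∧ (D.xh o q * b * (D.xh o q)⁻¹ = b → b = 1) := by
    rcases alt with h | h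
    · exact h.2
    · exact absurd hpo h.1
  -- no `b ≠ 1` fixes `z q`
  set zK : Md (KQ S Q (z o)) := Md.mk (z q) (D.E_le_ZK (D.z_mem_E q)) with hzK
  have hC : ∀ b ∈ B, b • zK = zK → b = 1 := by
    let C : Subgroup ↥(NG (KQ S Q (z o))) := B ⊓ MulAction.stabilizer _ zK
    have hCb : C = ⊥ := by
      by_contra hne
      have hCU : img (KQ S Q (z o)) (S0 (S : Subgroup G) Z) ≤ normalizer (C : Set ↥(NG (KQ S Q (z o)))) := by
        intro u hu
        refine mem_norm fun c hc => ?_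
        rw [mem_inf] at hc ⊢
        refine ⟨hBU u hu c hc.1, ?_⟩
        have hfix : ∀ u ∈ img (KQ S Q (z o)) (S0 (S : Subgroup G) Z), u • zK = zK := by
          intro u hu
          obtain ⟨s, hsN, hs, rfl⟩ := mem_img.mp hu
          apply Md.ext
          rw [val_phi]
          exact mem_cs'.mp (D.S0_le_C (o := q) hs)
        rw [MulAction.mem_stabilizer_iff, mul_smul, mul_smul, hfix _ (inv_mem hu),
          MulAction.mem_stabilizer_iff.mp hc.2, hfix _ hu]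
      obtain ⟨c, hc, hc1, hcU⟩ := Half.exists_fixed (V := C) (hB.to_le inf_le_left) hne hU hCU
      rw [mem_inf] at hc
      obtain ⟨w', hw', hwN', hwb', -, star', τ', r⟩ := D.out_of hBH hB2 hpq hs1 hs2 alt' hc.1 hc1 hcU
      have h1 := r.zo
      rw [r.so, mul_smul] at h1
      have h2 : τ' • D.zE o = D.zE q := by
        obtain ⟨s, hs, hsτ⟩ := D.mem_TT.mp r.mem
        have h3 := r.map
        rw [← hsτ, D.sN_phi hs, r.so] at h3
        rw [← hsτ]
        apply Md.ext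
        rw [val_phi, val_zE, val_zE, D.z_conj hs, h3]
      have h4 : phi (norE hwN') • D.zE q = D.zE q := by
        have h5 := MulAction.mem_stabilizer_iff.mp hc.2
        rw [← hwb'] at h5
        have h6 := congrArg Md.val h5
        exact Md.ext h6
      rw [h2, h4] at h1
      exact D.zE_ne o (by simpa using h1.symm)
    intro b hb hbz
    have : b ∈ C := mem_inf.mpr ⟨hb, MulAction.mem_stabilizer_iff.mpr hbz⟩
    rw [hCb] at this
    exact this
  refine ⟨q, w, Wp_le hw, hwN, star, τ, hres, ?_⟩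
  obtain ⟨hb', hb'1⟩ := hx b hb
  set b' := D.xh o q * b * (D.xh o q)⁻¹ with hb'd
  obtain ⟨w2, hw2K, hw2, hw2b⟩ := mem_img.mp (hBH hb')
  have hne : b' ≠ b := fun h => hb1 (hb'1 h)
  have hb'ne : b' ≠ 1 := by
    intro h
    apply hb1
    have : b = (D.xh o q)⁻¹ * b' * D.xh o q := by rw [hb'd]; group
    rw [this, h]; group
  have hv : ∀ {g : G} (hg : g ∈ normalizer (zc (KQ S Q (z o)) : Set G)), (phi hg • zK).val = g * z q * g⁻¹ :=
    fun hg => rfl
  refine ⟨w, Wp_le hw, w2, Wp_le hw2, fun h => ?_, fun h => ?_, fun h => ?_⟩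
  · apply hb1
    apply hC b hb
    rw [← hwb]
    exact Md.ext (by rw [hv, h]; rfl)
  · apply hb'ne
    apply hC b' hb'
    rw [← hw2b]
    exact Md.ext (by rw [hv, h]; rfl)
  · apply hne
    have h5 : b⁻¹ * b' = 1 := by
      apply hC _ (mul_mem (inv_mem hb) hb')
      rw [mul_smul, inv_smul_eq_iff, ← hwb, ← hw2b]
      exact Md.ext (by rw [hv, hv, h])
    exact (inv_mul_eq_one.mp h5).symm

end

end Dat

end Cfsg.Agent.Omega.ThmC

end

-- merged: Cfsg.Agent.Mrg.Omega.ThmC.TwoSix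
section

/-!
# THEOREM C, `q = 2`, step (6): the halved DATA (W)
-/

set_option autoImplicit false
set_option linter.unusedSectionVars false

namespace Cfsg.Agent.Omega.ThmC

open scoped Pointwise
open Subgroup Cfsg Cfsg.Agent.MinSimple.VModule
open Cfsg.Agent.ZN (zc o2)
open Cfsg.Agent.Omega.IITwo.Count (conj_mem conj_mem' mem_norm)

universe u

variable {G : Type u} [Group G]

/-! ### representatives of the pairs `{l, star l}` -/

section rep
variable {ι : Type} {star : ι → ι}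

/-- the equivalence relation of the pairs. -/
def pairS (hs : ∀ l, star (star l) = l) : Setoid ι where
  r l m := m = l ∨ m = star l
  iseqv := ⟨fun _ => Or.inl rfl, by
    rintro l m (rfl | rfl)
    · exact Or.inl rfl
    · exact Or.inr (hs l).symm, by
    rintro l m n (rfl | rfl) (rfl | rfl)
    · exact Or.inl rfl
    · exact Or.inr rfl
    · exact Or.inr rfl
    · exact Or.inl (hs l)⟩

/-- the representative of `{l, star l}`. -/
noncomputable def rep (hs : ∀ l, star (star l) = l) (l : ι) : ι := (Quotient.mk (pairS hs) l).out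

theorem rep_or (hs : ∀ l, star (star l) = l) (l : ι) : rep hs l = l ∨ rep hs l = star l := by
  have h : (pairS hs).r (Quotient.mk (pairS hs) l).out l := Quotient.mk_out (s := pairS hs) l
  rcases h with h | h
  · exact Or.inl h.symm
  · right
    change (Quotient.mk (pairS hs) l).out = star l
    conv_rhs => rw [h]
    exact (hs _).symm

theorem rep_star (hs : ∀ l, star (star l) = l) (l : ι) : rep hs (star l) = rep hs l := by
  have : Quotient.mk (pairS hs) (star l) = Quotient.mk (pairS hs) l :=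
    Quotient.sound (s := pairS hs) (Or.inr (hs l).symm)
  unfold rep
  rw [this]

theorem rep_rep (hs : ∀ l, star (star l) = l) (l : ι) : rep hs (rep hs l) = rep hs l := by
  rcases rep_or hs l with h | h
  · rw [h, h]
  · rw [h, rep_star hs, h]

end rep

namespace Dat

variable {S : Sylow 2 G} {Q : Subgroup G} {ι : Type} {Z : ι → Subgroup G} {x z : ι → G}

/-- the input of (6). -/
structure Six (D : Dat S Q Z x z) (o : ι) (star : ι → ι) (y : G) : Prop where
  ne : ∀ l, star l ≠ l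
  inv : ∀ l, star (star l) = l
  perm : ∀ s ∈ (S : Subgroup G), ∀ l, D.sg s (star l) = star (D.sg s l)
  yN : y ∈ normalizer (S0 (S : Subgroup G) Z : Set G)
  tr : ∀ l, l ≠ o → l ≠ star o → ∀ v ∈ zc (S0 (S : Subgroup G) Z), y * pr (x l) v * y⁻¹ = pr (x l) v
  pr : ∀ l, l ≠ o → l ≠ star o → ∀ v ∈ zc (S0 (S : Subgroup G) Z), pr (x l) (y * v * y⁻¹) = pr (x l) v
  three : ∀ v ∈ zc (S0 (S : Subgroup G) Z), (∀ l, l ≠ o → l ≠ star o → ThmC.pr (x l) v = 1) →
    v * (y * v * y⁻¹) * (y * (y * v * y⁻¹) * y⁻¹) = 1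
  comm : ∀ s ∈ (S : Subgroup G), D.sg s o = o → ∀ v ∈ zc (S0 (S : Subgroup G) Z),
    (s * y * s⁻¹) * v * (s * y * s⁻¹)⁻¹ = y * v * y⁻¹
  anti : ∀ s ∈ (S : Subgroup G), D.sg s o = star o → ∀ v ∈ zc (S0 (S : Subgroup G) Z),
    (s * y * s⁻¹) * v * (s * y * s⁻¹)⁻¹ = y⁻¹ * v * y

section
variable [Finite G] [Finite ι] (D : Dat S Q Z x z)

/-- the factor `C_l C_{star l}` of `E`. -/
def Xb (D : Dat S Q Z x z) (star : ι → ι) (l : ι) : Subgroup G where
  carrier := {v | v ∈ zc (S0 (S : Subgroup G) Z) ∧ ∀ m, m ≠ l → m ≠ star l → ThmC.pr (x m) v = 1}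
  one_mem' := ⟨one_mem _, fun m _ _ => by unfold ThmC.pr; group⟩
  mul_mem' := by
    rintro a b ⟨ha1, ha2⟩ ⟨hb1, hb2⟩
    refine ⟨mul_mem ha1 hb1, fun m h1 h2 => ?_⟩
    rw [pr_mul (D.xN m) (D.E_le ha1) (D.E_le hb1), ha2 m h1 h2, hb2 m h1 h2, one_mul]
  inv_mem' := by
    rintro a ⟨ha1, ha2⟩
    refine ⟨inv_mem ha1, fun m h1 h2 => ?_⟩
    have h3 : a * a = 1 := by
      have := zc_sq _ _ ha1
      rwa [pow_two] at this
    rw [inv_eq_of_mul_eq_one_right h3]
    exact ha2 m h1 h2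

variable {star : ι → ι}

theorem mem_Xb {l : ι} {v : G} : v ∈ D.Xb star l ↔
    v ∈ zc (S0 (S : Subgroup G) Z) ∧ ∀ m, m ≠ l → m ≠ star l → ThmC.pr (x m) v = 1 := Iff.rfl

theorem Xb_star (hs : ∀ l, star (star l) = l) (l : ι) : D.Xb star (star l) = D.Xb star l := by
  ext v
  rw [mem_Xb, mem_Xb, hs]
  exact and_congr_right fun _ => ⟨fun h m h1 h2 => h m h2 h1, fun h m h1 h2 => h m h2 h1⟩

theorem Xb_rep (hs : ∀ l, star (star l) = l) (l : ι) : D.Xb star (rep hs l) = D.Xb star l := by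
  rcases rep_or hs l with h | h
  · rw [h]
  · rw [h, D.Xb_star hs]

theorem mem_Xb_of_Z {l : ι} {v : G} (hv : v ∈ zc (S0 (S : Subgroup G) Z)) (h : v ∈ Z l) : v ∈ D.Xb star l :=
  ⟨hv, fun _ hm _ => D.pr_other hm h⟩

/-- `v = π_l(v) π_{star l}(v)` for `v ∈ X_l`. -/
theorem Xb_eq (hne : ∀ l, star l ≠ l) {l : ι} {v : G} (hv : v ∈ D.Xb star l) :
    v = ThmC.pr (x l) v * ThmC.pr (x (star l)) v := by
  classical
  have := Fintype.ofFinite ι
  have h1 := D.pi_sum (Md.mk v (D.E_le hv.1))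
  rw [← Finset.add_sum_erase _ _ (Finset.mem_univ l),
    ← Finset.add_sum_erase _ _ (Finset.mem_erase.mpr ⟨hne l, Finset.mem_univ (star l)⟩)] at h1
  have h2 : ∑ m ∈ (Finset.univ.erase l).erase (star l), D.pi m (Md.mk v (D.E_le hv.1)) = 0 := by
    refine Finset.sum_eq_zero fun m hm => ?_
    rw [Finset.mem_erase, Finset.mem_erase] at hm
    exact Md.ext (hv.2 m hm.2.1 hm.1)
  rw [h2, add_zero] at h1
  exact (congrArg Md.val h1).symm

theorem conj_Xb (hp : ∀ s ∈ (S : Subgroup G), ∀ l, D.sg s (star l) = star (D.sg s l)) {s : G}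
    (hs : s ∈ (S : Subgroup G)) {l : ι} {v : G} (hv : v ∈ D.Xb star l) : s * v * s⁻¹ ∈ D.Xb star (D.sg s l) := by
  refine ⟨conj_mem (D.S_le_nor_E hs) hv.1, fun m h1 h2 => ?_⟩
  have h3 : D.sg s (D.sg s⁻¹ m) = m := by
    rw [← D.sg_mul hs (inv_mem hs), mul_inv_cancel, D.sg_one]
  have h4 := D.pr_conj hs (D.sg s⁻¹ m) (D.E_le hv.1)
  rw [h3] at h4
  rw [← h4, hv.2 (D.sg s⁻¹ m) (fun h => h1 (by rw [← h3, h])) (fun h => h2 (by rw [← h3, h, hp s hs]))]
  group

end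

section six
variable [Finite G] [Finite ι] (D : Dat S Q Z x z) {star : ι → ι} {o : ι} {y : G}

theorem Six.y_mem (h : D.Six o star y) {v : G} (hv : v ∈ D.Xb star o) : y * v * y⁻¹ ∈ D.Xb star o := by
  refine ⟨conj_mem (normalizer_le_normalizer_zc _ h.yN) hv.1, fun m h1 h2 => ?_⟩
  rw [h.pr m h1 h2 v hv.1]
  exact hv.2 m h1 h2

theorem Six.y_triv (h : D.Six o star y) {m : ι} (h1 : m ≠ o) (h2 : m ≠ star o) {v : G} (hv : v ∈ D.Xb star m) :
    y * v * y⁻¹ = v := by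
  have e := D.Xb_eq h.ne hv
  have h3 : star m ≠ o := fun h0 => h2 (by rw [← h0, h.inv])
  have h4 : star m ≠ star o := fun h0 => h1 (by rw [← h.inv m, h0, h.inv])
  calc y * v * y⁻¹ = y * (ThmC.pr (x m) v * ThmC.pr (x (star m)) v) * y⁻¹ := by rw [← e]
    _ = (y * ThmC.pr (x m) v * y⁻¹) * (y * ThmC.pr (x (star m)) v * y⁻¹) := by group
    _ = ThmC.pr (x m) v * ThmC.pr (x (star m)) v := by
        rw [h.tr m h1 h2 v hv.1, h.tr (star m) h3 h4 v hv.1]
    _ = v := e.symm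

/-- an element of `S` moving `o` to `l`. -/
noncomputable def gS (D : Dat S Q Z x z) (o l : ι) : G := (D.trans o l).choose

theorem gS_mem (l : ι) : D.gS o l ∈ (S : Subgroup G) := (D.trans o l).choose_spec.1

theorem sg_gS (l : ι) : D.sg (D.gS o l) o = l := D.sg_eq' (D.gS_mem l) (D.trans o l).choose_spec.2

/-- the new `x`. -/
noncomputable def y' (D : Dat S Q Z x z) (o : ι) (y : G) (l : ι) : G := D.gS o l * y * (D.gS o l)⁻¹

theorem Six.y'_nor (h : D.Six o star y) (l : ι) : D.y' o y l ∈ normalizer (S0 (S : Subgroup G) Z : Set G) :=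
  mul_mem (mul_mem (D.S_le_nor_S0 (D.gS_mem l)) h.yN) (inv_mem (D.S_le_nor_S0 (D.gS_mem l)))

theorem inv_gS_Xb (h : D.Six o star y) {l : ι} {v : G} (hv : v ∈ D.Xb star l) :
    (D.gS o l)⁻¹ * v * D.gS o l ∈ D.Xb star o := by
  have := D.conj_Xb h.perm (inv_mem (D.gS_mem (o := o) l)) hv
  rwa [D.sg_inv (D.gS_mem l) (D.sg_gS l), inv_inv] at this

theorem Six.y'_mem (h : D.Six o star y) {l : ι} {v : G} (hv : v ∈ D.Xb star l) :
    D.y' o y l * v * (D.y' o y l)⁻¹ ∈ D.Xb star l := by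
  have h1 := h.y_mem D (D.inv_gS_Xb h hv)
  have h2 := D.conj_Xb h.perm (D.gS_mem (o := o) l) h1
  rw [D.sg_gS] at h2
  have e : D.gS o l * (y * ((D.gS o l)⁻¹ * v * D.gS o l) * y⁻¹) * (D.gS o l)⁻¹ =
      D.y' o y l * v * (D.y' o y l)⁻¹ := by unfold y'; group
  rwa [e] at h2

theorem Six.y'_three (h : D.Six o star y) {l : ι} {v : G} (hv : v ∈ D.Xb star l) :
    v * (D.y' o y l * v * (D.y' o y l)⁻¹) *
      (D.y' o y l * (D.y' o y l * v * (D.y' o y l)⁻¹) * (D.y' o y l)⁻¹) = 1 := by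
  have h0 := D.inv_gS_Xb h hv
  have h1 := h.three _ h0.1 h0.2
  have e : v * (D.y' o y l * v * (D.y' o y l)⁻¹) *
      (D.y' o y l * (D.y' o y l * v * (D.y' o y l)⁻¹) * (D.y' o y l)⁻¹) =
      D.gS o l * (((D.gS o l)⁻¹ * v * D.gS o l) * (y * ((D.gS o l)⁻¹ * v * D.gS o l) * y⁻¹) *
        (y * (y * ((D.gS o l)⁻¹ * v * D.gS o l) * y⁻¹) * y⁻¹)) * (D.gS o l)⁻¹ := by
    unfold y'; group
  rw [e, h1]; group

theorem Six.y'_triv (h : D.Six o star y) {l m : ι} (h1 : m ≠ l) (h2 : m ≠ star l) {v : G}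
    (hv : v ∈ D.Xb star m) : D.y' o y l * v * (D.y' o y l)⁻¹ = v := by
  have h3 := D.conj_Xb h.perm (inv_mem (D.gS_mem (o := o) l)) hv
  rw [inv_inv] at h3
  have hgl := D.sg_inv (D.gS_mem l) (D.sg_gS (o := o) l)
  have hback : ∀ n, D.sg (D.gS o l) (D.sg (D.gS o l)⁻¹ n) = n := fun n => by
    rw [← D.sg_mul (D.gS_mem l) (inv_mem (D.gS_mem l)), mul_inv_cancel, D.sg_one]
  have h4 : D.sg (D.gS o l)⁻¹ m ≠ o := fun h0 => h1 (by rw [← hback m, h0, D.sg_gS])
  have h5 : D.sg (D.gS o l)⁻¹ m ≠ star o := fun h0 => h2 (by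
    rw [← hback m, h0, h.perm _ (D.gS_mem l), D.sg_gS])
  have h6 := h.y_triv D h4 h5 h3
  calc D.y' o y l * v * (D.y' o y l)⁻¹ =
      D.gS o l * (y * ((D.gS o l)⁻¹ * v * D.gS o l) * y⁻¹) * (D.gS o l)⁻¹ := by unfold y'; group
    _ = v := by rw [h6]; group

/-- `s y'_l s⁻¹ = y'_m^{±1}` on `E` if `m ∈ {s l, star (s l)}`. -/
theorem Six.y'_perm (h : D.Six o star y) {s : G} (hs : s ∈ (S : Subgroup G)) (l : ι) {m : ι}
    (hm : m = D.sg s l ∨ m = star (D.sg s l)) :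
    (∀ v ∈ zc (S0 (S : Subgroup G) Z), (s * D.y' o y l * s⁻¹) * v * (s * D.y' o y l * s⁻¹)⁻¹ =
      D.y' o y m * v * (D.y' o y m)⁻¹) ∨
    (∀ v ∈ zc (S0 (S : Subgroup G) Z), (s * D.y' o y l * s⁻¹) * v * (s * D.y' o y l * s⁻¹)⁻¹ =
      (D.y' o y m)⁻¹ * v * D.y' o y m) := by
  have hl := D.gS_mem (o := o) l
  have hm' := D.gS_mem (o := o) m
  have hr : (D.gS o m)⁻¹ * s * D.gS o l ∈ (S : Subgroup G) := mul_mem (mul_mem (inv_mem hm') hs) hl
  have hro : D.sg ((D.gS o m)⁻¹ * s * D.gS o l) o = D.sg (D.gS o m)⁻¹ (D.sg s l) := by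
    rw [D.sg_mul (mul_mem (inv_mem hm') hs) hl, D.sg_mul (inv_mem hm') hs, D.sg_gS]
  have hgm := D.sg_inv hm' (D.sg_gS (o := o) m)
  have key : ∀ v, (s * D.y' o y l * s⁻¹) * v * (s * D.y' o y l * s⁻¹)⁻¹ =
      D.gS o m * ((((D.gS o m)⁻¹ * s * D.gS o l) * y * ((D.gS o m)⁻¹ * s * D.gS o l)⁻¹) *
        ((D.gS o m)⁻¹ * v * D.gS o m) *
        (((D.gS o m)⁻¹ * s * D.gS o l) * y * ((D.gS o m)⁻¹ * s * D.gS o l)⁻¹)⁻¹) * (D.gS o m)⁻¹ := by
    intro v
    unfold y'; group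
  rcases hm with hm | hm
  · left
    intro v hv
    have h1 : D.sg ((D.gS o m)⁻¹ * s * D.gS o l) o = o := by rw [hro, ← hm, hgm]
    rw [key, h.comm _ hr h1 _ (conj_mem' (D.S_le_nor_E hm') hv)]
    unfold y'; group
  · right
    intro v hv
    have h1 : D.sg ((D.gS o m)⁻¹ * s * D.gS o l) o = star o := by
      have h2 : D.sg s l = star m := by rw [hm, h.inv]
      rw [hro, h2, h.perm _ (inv_mem hm'), hgm]
    rw [key, h.anti _ hr h1 _ (conj_mem' (D.S_le_nor_E hm') hv)]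
    unfold y'; group

include D in
theorem zz_ne (hne : ∀ l, star l ≠ l) (l : ι) : z l * z (star l) ≠ 1 := by
  intro h
  have h1 : z l = (z (star l))⁻¹ := eq_inv_of_mul_eq_one_left h
  have h2 : z l ∈ Z (star l) := by rw [h1]; exact inv_mem (D.zm _)
  exact D.z1 l (D.disjZ (hne l) h2 (D.zm l))

theorem zz_mem (h : D.Six o star y) (l : ι) : z l * z (star l) ∈ D.Xb star l := by
  refine mul_mem (D.mem_Xb_of_Z (D.z_mem_E l) (D.zm l)) ?_
  rw [← D.Xb_star h.inv]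
  exact D.mem_Xb_of_Z (D.z_mem_E _) (D.zm _)

include D in
theorem zz_comm (l m : ι) : z l * z m = z m * z l := zc_comm Q _ (D.le l (D.zm l)) _ (D.le m (D.zm m))

theorem sum_mem {X : Subgroup G} {K : Subgroup G} {κ : Type} (s : Finset κ) (f : κ → Md X)
    (h : ∀ i ∈ s, (f i).val ∈ K) : (∑ i ∈ s, f i).val ∈ K := by
  classical
  induction s using Finset.induction_on with
  | empty => simp
  | insert a s ha ih =>
    rw [Finset.sum_insert ha, Md.val_add]
    exact mul_mem (h a (Finset.mem_insert_self a s)) (ih fun i hi => h i (Finset.mem_insert_of_mem hi))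

/-- **the halved DATA (W).** -/
theorem Six.dat (h : D.Six o star y) :
    Dat S (S0 (S : Subgroup G) Z) (fun l : {l : ι // rep h.inv l = l} => D.Xb star l)
      (fun l => D.y' o y l) (fun l => z l * z (star l)) where
  QS := S0_le
  SC := D.inf_cE.le
  CQ := ((centralizer_le (D.Q_le_S0)).trans D.CQ).trans D.Q_le_S0
  xQ l := h.y'_nor D l
  le _ _ hv := hv.1
  sup := by
    have := Fintype.ofFinite ι
    intro v hv
    have h1 := D.pX_sum (hX := D.E_le) (h := D.pr_E) (Md.mk v hv)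
    have h2 : v = (∑ l, D.pX D.E_le D.pr_E l (Md.mk v hv)).val := by rw [h1]; rfl
    rw [h2]
    refine sum_mem _ _ fun l _ => ?_
    have h3 : (D.pX D.E_le D.pr_E l (Md.mk v hv)).val ∈ D.Xb star (rep h.inv l) := by
      rw [D.Xb_rep h.inv]
      exact D.mem_Xb_of_Z (Md.val_mem _) (D.pX_mem l _)
    exact le_iSup (fun l : {l : ι // rep h.inv l = l} => D.Xb star l) ⟨rep h.inv l, rep_rep h.inv l⟩ h3
  nor l v hv := h.y'_mem D hv
  three l v hv := h.y'_three D hv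
  triv := by
    intro l m hlm v hv
    refine h.y'_triv D (fun h0 => hlm (Subtype.ext h0.symm)) (fun h0 => hlm ?_) hv
    apply Subtype.ext
    rw [← l.2, ← m.2, h0, rep_star h.inv]
  perm := by
    intro s hs l
    refine ⟨⟨rep h.inv (D.sg s l), rep_rep h.inv _⟩, fun v hv => ?_, ?_⟩
    · change s * v * s⁻¹ ∈ D.Xb star (rep h.inv (D.sg s l))
      rw [D.Xb_rep h.inv]
      exact D.conj_Xb h.perm hs hv
    · exact h.y'_perm D hs l (rep_or h.inv _)
  trans := by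
    intro l m
    obtain ⟨s, hs, hsm⟩ := D.trans l m
    refine ⟨s, hs, fun v hv => ?_⟩
    have := D.conj_Xb h.perm hs hv
    rwa [D.sg_eq' hs hsm] at this
  zm l := D.zz_mem h l
  z1 l := D.zz_ne h.ne l
  zfix := by
    rintro ⟨l, hl⟩ v hv hfix
    change v ∈ D.Xb star l at hv
    change ∀ s ∈ (S : Subgroup G), (∀ w ∈ D.Xb star l, s * w * s⁻¹ ∈ D.Xb star l) → s * v * s⁻¹ = v at hfix
    change v = 1 ∨ v = z l * z (star l)
    have e := D.Xb_eq h.ne hv
    have ha : ThmC.pr (x l) v ∈ Z l := D.pi_mem l (Md.mk v (D.E_le hv.1))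
    have hb : ThmC.pr (x (star l)) v ∈ Z (star l) := D.pi_mem (star l) (Md.mk v (D.E_le hv.1))
    have hnor : ∀ s ∈ (S : Subgroup G), (D.sg s l = l ∨ D.sg s l = star l) → s * v * s⁻¹ = v := by
      intro s hs h1
      refine hfix s hs fun w hw => ?_
      have := D.conj_Xb h.perm hs hw
      rcases h1 with h1 | h1
      · rwa [h1] at this
      · rwa [h1, D.Xb_star h.inv] at this
    obtain ⟨t, ht, htl⟩ := D.trans l (star l)
    have ht1 := D.sg_eq' ht htl
    have h3 := D.pr_conj ht l (D.E_le hv.1)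
    rw [ht1, hnor t ht (Or.inr ht1)] at h3
    have h4 := D.zfix l _ ha (fun s hs hw => by
      have h5 := D.sg_eq' hs hw
      have h6 := D.pr_conj hs l (D.E_le hv.1)
      rw [h5, hnor s hs (Or.inl h5)] at h6
      exact h6)
    rcases h4 with h4 | h4
    · left
      rw [h4] at h3
      rw [e, h4, ← h3]; group
    · right
      rw [h4, D.z_conj ht, ht1] at h3
      rw [e, h4, ← h3]

theorem card_lt (h : D.Six o star y) : Nat.card {l : ι // rep h.inv l = l} < Nat.card ι := by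
  by_cases h1 : rep h.inv o = o
  · refine Finite.card_subtype_lt (x := star o) fun h2 => ?_
    rw [rep_star h.inv, h1] at h2
    exact h.ne o h2.symm
  · exact Finite.card_subtype_lt (x := o) h1

end six

end Dat

end Cfsg.Agent.Omega.ThmC

end

-- merged: Cfsg.Agent.Mrg.Omega.ThmC.TwoEnd
section

/-!
# THEOREM C, case `q = 2` (bb OMEGA 15545, 16308)

`Dat.le_S` : `O₂(C_G(z o)) ≤ S`.   `stmt` : `Stmt G`.
-/

set_option autoImplicit false
set_option linter.unusedSectionVars false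

namespace Cfsg.Agent.Omega.ThmC

open scoped Pointwise
open Subgroup Cfsg Cfsg.Agent.MinSimple.VModule
open Cfsg.Agent.ZN (zc o2)
open Cfsg.Agent.MinSimple.Geo (cj_o2 cj_centralizer_singleton conj_mem_cj cj)
open Cfsg.Agent.Omega.IITwo.Count (conj_mem conj_mem' mem_norm)

universe u

variable {G : Type u} [Group G]

theorem conj_WW {g v w : G} (hw : w ∈ WW v) : g * w * g⁻¹ ∈ WW (g * v * g⁻¹) := by
  have h : cj g (WW v) = WW (g * v * g⁻¹) := by
    rw [WW, WW, cj_o2, cj_centralizer_singleton]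
  rw [← h]
  exact conj_mem_cj hw

namespace Dat

variable {S : Sylow 2 G} {Q : Subgroup G} {ι : Type} {Z : ι → Subgroup G} {x z : ι → G}

theorem Res.six [Finite G] [Finite ι] {D : Dat S Q Z x z} {o q : ι} {w : G}
    {hw : w ∈ normalizer (S0 (S : Subgroup G) Z : Set G)} {star : ι → ι}
    {τ : ↥(NG (S0 (S : Subgroup G) Z))} (r : D.Res o q hw star τ) {s : G} (hs : s ∈ (S : Subgroup G))
    (hτ : phi (D.S_le_nor_E hs) = τ) : D.Six o star (w * s) := by
  have hy : w * s ∈ normalizer (S0 (S : Subgroup G) Z : Set G) := mul_mem hw (D.S_le_nor_S0 hs)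
  have hY : phi (norE hw) * τ = phi (norE hy) := by rw [← hτ, phi_mul]
  have hso : D.sg s o = star o := by
    have := r.map
    rwa [← hτ, D.sN_phi hs] at this
  refine ⟨r.ne, r.inv, r.perm, hy, ?_, ?_, ?_, ?_, ?_⟩
  · intro l h1 h2 v hv
    have h3 := r.tr l h1 h2 (Md.mk v hv)
    rw [hY] at h3
    exact congrArg Md.val h3
  · intro l h1 h2 v hv
    have h3 := r.pr l h1 h2 (Md.mk v hv)
    rw [hY] at h3
    exact congrArg Md.val h3
  · intro v hv h0
    have hv' : v ∈ D.Xb star o := ⟨hv, h0⟩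
    have e := D.Xb_eq r.ne hv'
    have h3 := r.three (Md.mk v hv) (Md.ext e.symm)
    rw [hY] at h3
    exact congrArg Md.val h3
  · intro t ht hto v hv
    have h3 := r.comm _ (D.mem_TT.mpr ⟨t, ht, rfl⟩) (by rw [D.sN_phi ht, hto])
    rw [hY] at h3
    have h4 : phi (D.S_le_nor_E ht) * phi (norE hy) * (phi (D.S_le_nor_E ht))⁻¹ = phi (norE hy) := by
      rw [h3]; group
    rw [phi_mul, phi_inv, phi_mul, phi_eq_iff] at h4
    exact h4 v hv
  · intro t ht hto v hv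
    -- `t = (t s⁻¹) s`
    have hts : t * s⁻¹ ∈ (S : Subgroup G) := mul_mem ht (inv_mem hs)
    have hts2 : D.sg (t * s⁻¹) o = o := by
      have h1 : D.sg (t * s⁻¹) (star o) = star o := by
        rw [D.sg_mul ht (inv_mem hs), D.sg_inv hs hso, hto]
      rw [r.perm _ hts] at h1
      rw [← r.inv (D.sg (t * s⁻¹) o), h1, r.inv]
    have h3 := r.comm _ (D.mem_TT.mpr ⟨t * s⁻¹, hts, rfl⟩) (by rw [D.sN_phi hts, hts2])
    have h4 := r.tinv
    have h5 := r.sq
    rw [hY] at h3 h4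
    have h6 : phi (D.S_le_nor_E ht) = phi (D.S_le_nor_E hts) * τ := by
      rw [← hτ, phi_mul, phi_eq_iff]
      intro v _; group
    have h7 : τ⁻¹ = τ := inv_eq_of_mul_eq_one_right h5
    have h8 : phi (D.S_le_nor_E ht) * phi (norE hy) * (phi (D.S_le_nor_E ht))⁻¹ = (phi (norE hy))⁻¹ := by
      rw [h6, mul_inv_rev, h7]
      calc phi (D.S_le_nor_E hts) * τ * phi (norE hy) * (τ * (phi (D.S_le_nor_E hts))⁻¹) =
          phi (D.S_le_nor_E hts) * (τ * phi (norE hy) * τ) * (phi (D.S_le_nor_E hts))⁻¹ := by group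
        _ = phi (D.S_le_nor_E hts) * (phi (norE hy))⁻¹ * (phi (D.S_le_nor_E hts))⁻¹ := by rw [h4]
        _ = (phi (D.S_le_nor_E hts) * phi (norE hy) * (phi (D.S_le_nor_E hts))⁻¹)⁻¹ := by group
        _ = (phi (norE hy))⁻¹ := by rw [h3]; group
    rw [phi_mul, phi_inv, phi_mul, phi_inv, phi_eq_iff] at h8
    have := h8 v hv
    rw [this]; group

/-- **C'(k)** : `O₂(C_G(z o)) ≤ S`. -/
theorem le_S [Finite G] : ∀ (n : ℕ) (Q : Subgroup G) (ι : Type) (_ : Finite ι) (Z : ι → Subgroup G) (x z : ι → G),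
    Nat.card ι = n → Dat S Q Z x z → ∀ o, WW (z o) ≤ (S : Subgroup G) := by
  intro n
  induction n using Nat.strong_induction_on with
  | _ n ih =>
  intro Q ι _ Z x z hn D o
  have := Fintype.ofFinite ι
  by_contra hne
  obtain ⟨q, w, hw, hwN, star, τ, r, w1, hw1, w2, hw2, n1, n2, n3⟩ := D.step hne
  obtain ⟨s, hs, hτ⟩ := D.mem_TT.mp r.mem
  have h6 := r.six hs hτ
  have hso : D.sg s o = q := by
    have := r.map
    rwa [← hτ, D.sN_phi hs, r.so] at this
  have hsq : D.sg s q = o := by rw [← r.so, r.perm s hs, hso, ← r.so, r.inv]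
  -- induction
  have hWb : WW (z o * z q) ≤ (S : Subgroup G) := by
    have h1 := ih (Nat.card {l : ι // rep h6.inv l = l}) (by rw [← hn]; exact D.card_lt h6) _ _ inferInstance _ _ _ rfl
      h6.dat ⟨rep h6.inv o, rep_rep h6.inv o⟩
    change WW (z (rep h6.inv o) * z (star (rep h6.inv o))) ≤ _ at h1
    rcases rep_or h6.inv o with h | h
    · rwa [h, r.so] at h1
    · rwa [h, r.inv, r.so, D.zz_comm] at h1
  -- the conjugating element
  have ez : s * z o * s⁻¹ = z q := by rw [D.z_conj hs, hso]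
  have ezq : s * z q * s⁻¹ = z o := by rw [D.z_conj hs, hsq]
  have ew : w * z o * w⁻¹ = z o := mem_cs'.mp (WW_le _ hw)
  have ewq : w * z q * w⁻¹ = z o * z q := by
    have h1 := r.zo
    rw [← hτ, r.so] at h1
    have h2 := congrArg Md.val h1
    rw [Md.val_add, val_zE, val_zE] at h2
    have h3 : (((phi (norE hwN) * phi (D.S_le_nor_E hs)) • D.zE o).val : G) = w * (s * z o * s⁻¹) * w⁻¹ := by
      rw [mul_smul]; rfl
    rw [h3, ez] at h2
    exact h2
  set g := s * w * s⁻¹ with hg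
  have es : s⁻¹ * z q * s = z o := by rw [← ez]; group
  have es' : s⁻¹ * z o * s = z q := by rw [← ezq]; group
  have hgq : g * z q * g⁻¹ = z q := by
    calc g * z q * g⁻¹ = s * (w * (s⁻¹ * z q * s) * w⁻¹) * s⁻¹ := by rw [hg]; group
      _ = z q := by rw [es, ew, ez]
  have hgo : g * z o * g⁻¹ = z o * z q := by
    calc g * z o * g⁻¹ = s * (w * (s⁻¹ * z o * s) * w⁻¹) * s⁻¹ := by rw [hg]; group
      _ = s * (z o * z q) * s⁻¹ := by rw [es', ewq]
      _ = (s * z o * s⁻¹) * (s * z q * s⁻¹) := by group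
      _ = z o * z q := by rw [ez, ezq, D.zz_comm]
  have hqo : q ≠ o := by
    intro h
    have h1 := r.ne o
    rw [r.so] at h1
    exact h1 h
  -- the orbit of `z q` under `W_b`
  have orb : ∀ u ∈ (S : Subgroup G), u * (z o * z q) * u⁻¹ = z o * z q → u * z q * u⁻¹ = z o ∨ u * z q * u⁻¹ = z q := by
    intro u hu hf
    rw [D.z_conj hu]
    by_cases h1 : D.sg u q = o
    · left; rw [h1]
    by_cases h2 : D.sg u q = q
    · right; rw [h2]
    exfalso
    have h3 : z (D.sg u o) * z (D.sg u q) = z o * z q := by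
      rw [← D.z_conj hu, ← D.z_conj hu, ← hf]; group
    have h4 : D.sg u q ≠ D.sg u o := by
      intro h
      apply hqo
      have := congrArg (D.sg u⁻¹) h
      rwa [← D.sg_mul (inv_mem hu) hu, ← D.sg_mul (inv_mem hu) hu, inv_mul_cancel, D.sg_one, D.sg_one] at this
    have h5 := congrArg (ThmC.pr (x (D.sg u q))) h3
    rw [pr_mul (D.xN _) (D.le _ (D.zm _)) (D.le _ (D.zm _)), pr_mul (D.xN _) (D.le _ (D.zm _)) (D.le _ (D.zm _)),
      D.pr_other h4 (D.zm _), D.pr_self (D.zm _), D.pr_other h1 (D.zm _), D.pr_other h2 (D.zm _), one_mul,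
      one_mul] at h5
    exact D.z1 _ h5
  have key : ∀ w' ∈ WW (z o), w' * z q * w'⁻¹ ≠ z q → w' * z q * w'⁻¹ = g⁻¹ * z o * g := by
    intro w' hw' hne'
    have h1 := conj_WW (g := g) hw'
    rw [hgo] at h1
    have h2 := orb _ (hWb h1) (mem_cs'.mp (WW_le _ h1))
    have h3 : g * w' * g⁻¹ * z q * (g * w' * g⁻¹)⁻¹ = g * (w' * z q * w'⁻¹) * g⁻¹ := by
      calc g * w' * g⁻¹ * z q * (g * w' * g⁻¹)⁻¹ = g * w' * (g⁻¹ * z q * g) * w'⁻¹ * g⁻¹ := by group
        _ = g * w' * (g⁻¹ * (g * z q * g⁻¹) * g) * w'⁻¹ * g⁻¹ := by rw [hgq]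
        _ = _ := by group
    rw [h3] at h2
    rcases h2 with h2 | h2
    · rw [← h2]; group
    · exfalso
      apply hne'
      calc w' * z q * w'⁻¹ = g⁻¹ * (g * (w' * z q * w'⁻¹) * g⁻¹) * g := by group
        _ = g⁻¹ * (g * z q * g⁻¹) * g := by rw [h2, hgq]
        _ = z q := by group
  exact n3 ((key w1 hw1 n1).trans (key w2 hw2 n2).symm)

end Dat

/-- **THEOREM C for `q = 2`.** -/
theorem stmt [Finite G] : Stmt G := by
  intro S Q ι _ Z x z D i l hil
  have h1 := Dat.le_S (S := S) _ Q ι ‹_› Z x z rfl D i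
  have h2 : WW (z i) ≤ S0 (S : Subgroup G) Z := (le_inf le_rfl h1).trans D.inf_le_S0
  exact h2.trans D.S0_le_C

/-- the stronger form: `O₂(C_G(z i)) ≤ S⁰`. -/
theorem Dat.o2_le_S0 [Finite G] {S : Sylow 2 G} {Q : Subgroup G} {ι : Type} [Finite ι] {Z : ι → Subgroup G}
    {x z : ι → G} (D : Dat S Q Z x z) (i : ι) : o2 (centralizer {z i}) ≤ S0 (S : Subgroup G) Z :=
  (le_inf le_rfl (Dat.le_S (S := S) _ Q ι ‹_› Z x z rfl D i)).trans D.inf_le_S0

end Cfsg.Agent.Omega.ThmC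

end
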